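import Groth.Prelude.Def_RootCh2
import Mathlib.LinearAlgebra.RootSystem.BaseExists
import Mathlib.LinearAlgebra.RootSystem.Finite.CanonicalBilinear

set_option autoImplicit false
set_option linter.unusedSectionVars false

/-!
# Chamber geometry of a finite root system over an ordered field: basic tools
-/

namespace Groth.Agent.H27.Ch

open RootPairing RootCh Module

universe u v w x

variable {ι : Type u} {R : Type v} {M : Type w} {N : Type x}
  [Field R] [LinearOrder R] [IsStrictOrderedRing R]
  [AddCommGroup M] [Module R M] [AddCommGroup N] [Module R N]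

section General

variable (P : RootPairing ι R M N)

theorem root_neg (i : ι) : P.root (P.reflectionPerm i i) = - P.root i := by
  rw [P.root_reflectionPerm, P.reflection_apply_self]

theorem coroot_neg (i : ι) : P.coroot (P.reflectionPerm i i) = - P.coroot i := by
  rw [P.coroot_reflectionPerm, P.coreflection_apply_self]

theorem coroot'_neg (i : ι) (ξ : M) : P.coroot' (P.reflectionPerm i i) ξ = - P.coroot' i ξ := by
  show P.toLinearMap ξ (P.coroot (P.reflectionPerm i i)) = - P.toLinearMap ξ (P.coroot i)
  rw [coroot_neg, map_neg]

theorem root'_neg (i : ι) (y : N) : P.root' (P.reflectionPerm i i) y = - P.root' i y := by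
  show P.toLinearMap (P.root (P.reflectionPerm i i)) y = - P.toLinearMap (P.root i) y
  rw [root_neg, map_neg, LinearMap.neg_apply]

theorem neg_neg_idx (i : ι) :
    P.reflectionPerm (P.reflectionPerm i i) (P.reflectionPerm i i) = i := by
  apply P.root.injective
  rw [root_neg, root_neg, neg_neg]

/-- The reflection permutation attached to `-i` is that attached to `i`. -/
theorem reflectionPerm_neg (i : ι) :
    P.reflectionPerm (P.reflectionPerm i i) = P.reflectionPerm i := by
  ext k
  apply P.root.injective
  rw [P.root_reflectionPerm, P.root_reflectionPerm, P.reflection_apply, P.reflection_apply,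
    coroot'_neg, root_neg]
  simp

theorem two_mul_rootForm_root [Fintype ι] (x : M) (j : ι) :
    2 * P.RootForm x (P.root j) = P.coroot' j x * P.RootForm (P.root j) (P.root j) := by
  have h := P.rootForm_reflection_reflection_apply j x (P.root j)
  rw [P.reflection_apply_self, P.reflection_apply] at h
  simp only [map_neg, map_sub, map_smul, LinearMap.sub_apply, LinearMap.smul_apply,
    smul_eq_mul] at h
  linarith

theorem rootForm_root_pos [Fintype ι] (j : ι) : 0 < P.RootForm (P.root j) (P.root j) := by
  rw [P.rootForm_apply_apply]
  have h4 : P.coroot' j (P.root j) * P.coroot' j (P.root j) = 4 := by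
    rw [P.root_coroot'_eq_pairing, P.pairing_same]; norm_num
  have hle : P.coroot' j (P.root j) * P.coroot' j (P.root j) ≤
      ∑ i, P.coroot' i (P.root j) * P.coroot' i (P.root j) :=
    Finset.single_le_sum (f := fun i => P.coroot' i (P.root j) * P.coroot' i (P.root j))
      (fun i _ => mul_self_nonneg _) (Finset.mem_univ j)
  linarith

/-- The sign of `⟨ξ, α^∨⟩` is the sign of `B(ξ, α)`. -/
theorem coroot'_eq_rootForm [Fintype ι] (x : M) (j : ι) :
    P.coroot' j x = 2 * P.RootForm x (P.root j) / P.RootForm (P.root j) (P.root j) := by
  rw [two_mul_rootForm_root, mul_div_assoc, div_self (rootForm_root_pos P j).ne', mul_one]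

end General

section RootSystem

variable (P : RootPairing ι R M N) [P.IsRootSystem]

theorem eq_zero_of_forall_coroot' {x : M} (h : ∀ i, P.coroot' i x = 0) : x = 0 := by
  have h1 : P.toLinearMap x = 0 := by
    apply LinearMap.ext_on (IsRootSystem.span_coroot_eq_top (P := P))
    rintro _ ⟨i, rfl⟩
    exact h i
  have hinj : Function.Injective P.toLinearMap.toPerfPair := P.toLinearMap.toPerfPair.injective
  apply hinj
  rw [map_zero]
  exact h1

theorem eq_of_forall_coroot' {x y : M} (h : ∀ i, P.coroot' i x = P.coroot' i y) : x = y := by
  rw [← sub_eq_zero]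
  apply eq_zero_of_forall_coroot' P
  intro i
  rw [map_sub, h i, sub_self]

theorem eq_zero_of_forall_simple (b : P.Base) {x : M}
    (h : ∀ i ∈ b.support, P.coroot' i x = 0) : x = 0 := by
  have h1 : P.toLinearMap x = 0 := by
    have hs : Submodule.span R (P.coroot '' (b.support : Set ι)) = ⊤ := by
      rw [b.span_coroot_support]
      exact IsRootSystem.span_coroot_eq_top (P := P)
    apply LinearMap.ext_on hs
    rintro _ ⟨i, hi, rfl⟩
    exact h i hi
  have hinj : Function.Injective P.toLinearMap.toPerfPair := P.toLinearMap.toPerfPair.injective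
  apply hinj
  rw [map_zero]
  exact h1

theorem eq_of_forall_simple (b : P.Base) {x y : M}
    (h : ∀ i ∈ b.support, P.coroot' i x = P.coroot' i y) : x = y := by
  rw [← sub_eq_zero]
  apply eq_zero_of_forall_simple P b
  intro i hi
  rw [map_sub, h i hi, sub_self]

end RootSystem

end Groth.Agent.H27.Ch
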