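import Mathlib.Analysis.Convex.Hull
import Mathlib.Algebra.Order.Field.Basic
import Mathlib.Order.Directed
import Mathlib.Tactic

set_option autoImplicit false
set_option linter.unusedSectionVars false

/-!
# Separation of a point from a finitely generated convex set over an ordered field
-/

namespace Groth.Agent.H27.Ch

variable {R M N : Type*} [Field R] [LinearOrder R] [IsStrictOrderedRing R]
  [AddCommGroup M] [Module R M] [AddCommGroup N] [Module R N]

theorem exists_large {A : Type*} (s : Finset A) (p q : A → R) (hp : ∀ a ∈ s, 0 < p a) :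
    ∃ K : R, ∀ a ∈ s, 0 < K * p a + q a := by
  classical
  obtain ⟨K₀, hK₀⟩ := Finset.exists_le (s.image fun a => - q a / p a)
  refine ⟨K₀ + 1, fun a ha => ?_⟩
  have h1 : - q a / p a ≤ K₀ := hK₀ _ (Finset.mem_image_of_mem _ ha)
  have hpa := hp a ha
  have h2 : - q a ≤ K₀ * p a := by rwa [div_le_iff₀ hpa] at h1
  nlinarith

/-- The cone of positive multiples of points of a convex set is convex. -/
theorem convex_posMultiples {C : Set N} (hC : Convex R C) :
    Convex R {v : N | ∃ c : R, 0 < c ∧ c • v ∈ C} := by
  rintro x ⟨c₁, hc₁, hx⟩ y ⟨c₂, hc₂, hy⟩ a b ha hb hab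
  have hw : 0 < a / c₁ + b / c₂ := by
    rcases ha.eq_or_lt with ha0 | ha0
    · have hb1 : b = 1 := by rw [← ha0] at hab; simpa using hab
      rw [← ha0, hb1]; simp only [zero_div, zero_add]; positivity
    · have : 0 < a / c₁ := div_pos ha0 hc₁
      have : 0 ≤ b / c₂ := div_nonneg hb hc₂.le
      linarith
  refine ⟨1 / (a / c₁ + b / c₂), by positivity, ?_⟩
  have hmem := hC hx hy (a := (1 / (a / c₁ + b / c₂)) * (a / c₁))
    (b := (1 / (a / c₁ + b / c₂)) * (b / c₂))
    (by positivity) (by positivity) (by rw [← mul_add, one_div, inv_mul_cancel₀ hw.ne'])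
  have e : (1 / (a / c₁ + b / c₂)) • (a • x + b • y) =
      ((1 / (a / c₁ + b / c₂)) * (a / c₁)) • c₁ • x + ((1 / (a / c₁ + b / c₂)) * (b / c₂)) • c₂ • y := by
    rw [smul_add, smul_smul, smul_smul, smul_smul, smul_smul]
    congr 2
    · field_simp
    · field_simp
  rw [e]; exact hmem

theorem gordan (Φ : M →ₗ[R] N →ₗ[R] R) (hsep : ∀ v : N, v ≠ 0 → ∃ ξ, Φ ξ v ≠ 0)
    {A : Type*} (s : Finset A) : ∀ (u : A → N), (0 : N) ∉ convexHull R (u '' (s : Set A)) →
      ∃ ξ : M, ∀ a ∈ s, 0 < Φ ξ (u a) := by
  classical
  induction s using Finset.induction_on with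
  | empty => intro u _; exact ⟨0, fun a ha => absurd ha (Finset.notMem_empty a)⟩
  | insert a₀ s ha₀ ih =>
    intro u h
    have hsub : u '' (s : Set A) ⊆ u '' ((insert a₀ s : Finset A) : Set A) :=
      Set.image_mono (by intro a ha; exact Finset.mem_insert_of_mem ha)
    have h0mem : u a₀ ∈ u '' ((insert a₀ s : Finset A) : Set A) :=
      ⟨a₀, Finset.mem_insert_self a₀ s, rfl⟩
    obtain ⟨f, hf⟩ := ih u (fun h' => h (convexHull_mono hsub h'))
    have hu₀ : u a₀ ≠ 0 := by
      intro e; apply h; rw [← e]; exact subset_convexHull R _ h0mem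
    obtain ⟨ξ₀, hξ₀⟩ : ∃ ξ₀, 0 < Φ ξ₀ (u a₀) := by
      obtain ⟨ξ, hξ⟩ := hsep _ hu₀
      rcases lt_or_gt_of_ne hξ with h1 | h1
      · exact ⟨-ξ, by rw [map_neg, LinearMap.neg_apply]; linarith⟩
      · exact ⟨ξ, h1⟩
    rcases lt_trichotomy (Φ f (u a₀)) 0 with hneg | hzero | hpos
    · -- the main case
      set u' : A → N := fun a => Φ f (u a) • u a₀ - Φ f (u a₀) • u a with hu'
      have h' : (0 : N) ∉ convexHull R (u' '' (s : Set A)) := by
        intro hcon
        have hK := convex_posMultiples (R := R)
          (convex_convexHull R (u '' ((insert a₀ s : Finset A) : Set A)))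
        have hsub' : u' '' (s : Set A) ⊆
            {v : N | ∃ c : R, 0 < c ∧ c • v ∈ convexHull R (u '' ((insert a₀ s : Finset A) : Set A))} := by
          rintro _ ⟨a, ha, rfl⟩
          have hfa := hf a ha
          have hT : 0 < Φ f (u a) - Φ f (u a₀) := by linarith
          refine ⟨1 / (Φ f (u a) - Φ f (u a₀)), by positivity, ?_⟩
          have hmem := convex_convexHull R (u '' ((insert a₀ s : Finset A) : Set A))
            (subset_convexHull R _ h0mem)
            (subset_convexHull R _ (hsub ⟨a, ha, rfl⟩))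
            (a := Φ f (u a) / (Φ f (u a) - Φ f (u a₀)))
            (b := - Φ f (u a₀) / (Φ f (u a) - Φ f (u a₀)))
            (div_nonneg hfa.le hT.le) (div_nonneg (by linarith) hT.le)
            (by rw [← add_div, ← sub_eq_add_neg, div_self hT.ne'])
          have e : (1 / (Φ f (u a) - Φ f (u a₀))) • u' a =
              (Φ f (u a) / (Φ f (u a) - Φ f (u a₀))) • u a₀ +
                (- Φ f (u a₀) / (Φ f (u a) - Φ f (u a₀))) • u a := by
            rw [hu']; simp only
            rw [smul_sub, smul_smul, smul_smul, sub_eq_add_neg, ← neg_smul]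
            congr 2
            · field_simp
            · field_simp
          rw [e]; exact hmem
        obtain ⟨c, _, hc⟩ := convexHull_min hsub' hK hcon
        rw [smul_zero] at hc
        exact h hc
      obtain ⟨g, hg⟩ := ih u' h'
      set h₀ : M := (- Φ f (u a₀)) • g + Φ g (u a₀) • f with hh₀
      have hh₀0 : Φ h₀ (u a₀) = 0 := by
        rw [hh₀]; simp only [map_add, map_smul, LinearMap.add_apply, LinearMap.smul_apply,
          smul_eq_mul]; ring
      have hh₀a : ∀ a ∈ s, 0 < Φ h₀ (u a) := by
        intro a ha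
        have := hg a ha
        rw [hu'] at this
        simp only [map_sub, map_smul, smul_eq_mul] at this
        rw [hh₀]; simp only [map_add, map_smul, LinearMap.add_apply, LinearMap.smul_apply,
          smul_eq_mul]
        linarith
      obtain ⟨K, hK⟩ := exists_large s (fun a => Φ h₀ (u a)) (fun a => - Φ f (u a)) hh₀a
      refine ⟨K • h₀ - f, fun a ha => ?_⟩
      rcases Finset.mem_insert.mp ha with rfl | ha
      · simp only [map_sub, map_smul, LinearMap.sub_apply, LinearMap.smul_apply, smul_eq_mul,
          hh₀0, mul_zero, zero_sub]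
        linarith
      · have := hK a ha
        simp only [map_sub, map_smul, LinearMap.sub_apply, LinearMap.smul_apply, smul_eq_mul]
        linarith
    · obtain ⟨K, hK⟩ := exists_large s (fun a => Φ f (u a)) (fun a => Φ ξ₀ (u a)) hf
      refine ⟨K • f + ξ₀, fun a ha => ?_⟩
      rcases Finset.mem_insert.mp ha with rfl | ha
      · simp only [map_add, map_smul, LinearMap.add_apply, LinearMap.smul_apply, smul_eq_mul,
          hzero, mul_zero, zero_add]
        exact hξ₀
      · have := hK a ha
        simp only [map_add, map_smul, LinearMap.add_apply, LinearMap.smul_apply, smul_eq_mul]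
        exact this
    · refine ⟨f, fun a ha => ?_⟩
      rcases Finset.mem_insert.mp ha with rfl | ha
      · exact hpos
      · exact hf a ha

/-- Strict separation of a point from the convex hull of finitely many points. -/
theorem exists_separating (Φ : M →ₗ[R] N →ₗ[R] R) (hsep : ∀ v : N, v ≠ 0 → ∃ ξ, Φ ξ v ≠ 0)
    {A : Type*} (s : Finset A) (v : A → N) (x : N)
    (hx : x ∉ convexHull R (v '' (s : Set A))) : ∃ ξ : M, ∀ a ∈ s, Φ ξ x < Φ ξ (v a) := by
  have h0 : (0 : N) ∉ convexHull R ((fun a => v a - x) '' (s : Set A)) := by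
    intro hcon
    have hT : Convex R {y : N | y + x ∈ convexHull R (v '' (s : Set A))} := by
      intro y₁ h₁ y₂ h₂ a b ha hb hab
      have := convex_convexHull R (v '' (s : Set A)) h₁ h₂ ha hb hab
      have e : a • y₁ + b • y₂ + x = a • (y₁ + x) + b • (y₂ + x) := by
        rw [smul_add, smul_add]
        have : x = a • x + b • x := by rw [← add_smul, hab, one_smul]
        nth_rewrite 1 [this]; abel
      show a • y₁ + b • y₂ + x ∈ convexHull R (v '' (s : Set A))
      rw [e]; exact this
    have hsub : (fun a => v a - x) '' (s : Set A) ⊆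
        {y : N | y + x ∈ convexHull R (v '' (s : Set A))} := by
      rintro _ ⟨a, ha, rfl⟩
      show v a - x + x ∈ convexHull R (v '' (s : Set A))
      rw [sub_add_cancel]
      exact subset_convexHull R _ ⟨a, ha, rfl⟩
    have := convexHull_min hsub hT hcon
    apply hx
    simpa using this
  obtain ⟨ξ, hξ⟩ := gordan Φ hsep s _ h0
  refine ⟨ξ, fun a ha => ?_⟩
  have := hξ a ha
  rw [map_sub] at this
  linarith

end Groth.Agent.H27.Ch
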