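import Groth.Agent.H27.Ch.Sums
import Groth.Agent.H27.Ch.Gordan

set_option autoImplicit false
set_option linter.unusedSectionVars false

/-!
# Complementary convex solids: walls, half-spaces and the description of the dual solids
-/

namespace Groth.Agent.H27.Ch

open RootPairing RootCh Module
open scoped Classical

universe u v w x

variable {ι : Type u} {R : Type v} {M : Type w} {N : Type x}
  [Field R] [LinearOrder R] [IsStrictOrderedRing R]
  [AddCommGroup M] [Module R M] [AddCommGroup N] [Module R N]
  {P : RootPairing ι R M N} [Finite ι] [P.IsRootSystem] [P.IsCrystallographic] [P.IsReduced]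

theorem baseCorners_inter_sBase (b : P.Base) {j : ι} (hj : j ∈ b.support) :
    baseCorners b ∩ baseCorners (sBase b j) = fw b '' ((b.support.erase j : Finset ι) : Set ι) := by
  ext w
  constructor
  · rintro ⟨h1, h2⟩
    rw [baseCorners_eq] at h1
    obtain ⟨l, hl, rfl⟩ := h1
    refine ⟨l, ?_, rfl⟩
    rw [Finset.mem_coe, Finset.mem_erase]
    refine ⟨?_, hl⟩
    rintro rfl
    have := h2.2 _ (perm_mem_sBase_support b l hl)
    rw [coroot'_neg, coroot'_fw b hl hl, if_pos rfl] at this
    linarith
  · rintro ⟨l, hl, rfl⟩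
    rw [Finset.mem_coe, Finset.mem_erase] at hl
    refine ⟨fw_mem_baseCorners b hl.2, ?_⟩
    rw [← fw_sBase_of_ne b hj hl.2 hl.1]
    exact fw_mem_baseCorners _ (perm_mem_sBase_support b j hl.2)

theorem wall_isPos_iff (b : P.Base) {j : ι} (hj : j ∈ b.support) (k : ι) :
    (b.IsPos k ∧ ¬ (sBase b j).IsPos k) ↔ k = j := by
  rw [isPos_sBase_simple b hj]
  constructor
  · rintro ⟨h1, h2⟩
    by_contra hne
    exact h2 (Or.inl ⟨h1, hne⟩)
  · intro e
    rw [e]
    refine ⟨Base.isPos_of_mem_support hj, ?_⟩
    rintro (⟨_, h⟩ | h)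
    · exact h rfl
    · exact idx_ne_neg j h.symm

variable {d : P.Base → N}

/-- Crossing a wall changes `d` by a non-negative multiple of the coroot of the wall. -/
theorem IsCCS.wall (hd : IsCCS d) (b : P.Base) {j : ι} (hj : j ∈ b.support) :
    ∃ c : R, 0 ≤ c ∧ d (sBase b j) = d b + c • P.coroot j := by
  have hB1 : ∀ l ∈ b.support, l ≠ j →
      P.toLinearMap (fw b l) (d b) = P.toLinearMap (fw b l) (d (sBase b j)) := by
    intro l hl hlj
    apply hd.corner_eq
    · exact fw_mem_baseCorners b hl
    · rw [← fw_sBase_of_ne b hj hl hlj]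
      exact fw_mem_baseCorners _ (perm_mem_sBase_support b j hl)
  have hv : ∀ l ∈ b.support, l ≠ j → P.toLinearMap (fw b l) (d (sBase b j) - d b) = 0 := by
    intro l hl hlj
    rw [map_sub, ← hB1 l hl hlj, sub_self]
  have hexp : d (sBase b j) - d b =
      P.toLinearMap (fw b j) (d (sBase b j) - d b) • P.coroot j := by
    conv_lhs => rw [← sum_pairing_fw_coroot b (d (sBase b j) - d b)]
    exact Finset.sum_eq_single_of_mem j hj fun l hl hlj => by rw [hv l hl hlj, zero_smul]
  have hcard : (baseCorners b ∩ baseCorners (sBase b j)).ncard + 1 = b.support.card := by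
    have hinj : Set.InjOn (fw b) ((b.support.erase j : Finset ι) : Set ι) := by
      intro l hl l' hl' h
      exact fw_injective b (Finset.mem_of_mem_erase hl) (Finset.mem_of_mem_erase hl') h
    rw [baseCorners_inter_sBase b hj, hinj.ncard_image, Set.ncard_coe_finset,
      Finset.card_erase_add_one hj]
  have hB2 := hd.wall_le b (sBase b j) j hcard (fun k => wall_isPos_iff b hj k)
  refine ⟨P.toLinearMap (fw b j) (d (sBase b j) - d b), ?_, ?_⟩
  · have h1 : P.root' j (d (sBase b j) - d b) =
        P.toLinearMap (fw b j) (d (sBase b j) - d b) * 2 := by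
      conv_lhs => rw [hexp]
      rw [map_smul, smul_eq_mul]
      congr 1
      show P.toLinearMap (P.root j) (P.coroot j) = 2
      rw [P.root_coroot_eq_pairing, P.pairing_same]
    have h2 : 0 ≤ P.root' j (d (sBase b j) - d b) := by
      rw [map_sub]; linarith
    rw [h1] at h2
    linarith
  · rw [← hexp]; abel

theorem IsCCS.le_of_mem_closedChamber (hd : IsCCS d) (b : P.Base) {w : M}
    (hw : w ∈ closedChamber b) (b' : P.Base) :
    P.toLinearMap w (d b) ≤ P.toLinearMap w (d b') := by
  induction b' using base_induction b with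
  | h0 => exact le_refl _
  | hstep c j hj hjpos ih =>
    obtain ⟨t, ht, he⟩ := IsCCS.wall hd c hj
    rw [he, map_add, map_smul, smul_eq_mul]
    have : 0 ≤ P.toLinearMap w (P.coroot j) := coroot'_nonneg_of_isPos hw hjpos
    have := mul_nonneg ht this
    linarith

theorem convex_hyper (d : P.Base → N) (m : M) : Convex R (hyper d m) := by
  intro x hx y hy a c _ _ hac b hb
  rw [map_add, map_smul, map_smul, hx b hb, hy b hb, ← add_smul, hac, one_smul]

theorem convex_halfClosed (d : P.Base → N) (m : M) : Convex R (halfClosed d m) := by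
  intro x hx y hy a c ha hc hac b hb
  rw [map_add, map_smul, map_smul, smul_eq_mul, smul_eq_mul]
  have h1 := mul_le_mul_of_nonneg_left (hx b hb) ha
  have h2 := mul_le_mul_of_nonneg_left (hy b hb) hc
  have : P.toLinearMap m (d b) = a * P.toLinearMap m (d b) + c * P.toLinearMap m (d b) := by
    rw [← add_mul, hac, one_mul]
  linarith

theorem IsCCS.mem_hyper (hd : IsCCS d) {b' : P.Base} {m : M} (hm : m ∈ baseCorners b') :
    d b' ∈ hyper d m := fun b hb => hd.corner_eq b' b m hm hb

theorem IsCCS.mem_halfClosed (hd : IsCCS d) (b' : P.Base) (m : M) : d b' ∈ halfClosed d m :=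
  fun b hb => IsCCS.le_of_mem_closedChamber hd b hb.2 b'

theorem IsCCS.solid_subset_halfClosed (hd : IsCCS d) (m : M) : solid d ⊆ halfClosed d m := by
  apply convexHull_min _ (convex_halfClosed d m)
  rintro _ ⟨b', rfl⟩
  exact IsCCS.mem_halfClosed hd b' m

theorem dualSolid_subset_solid (d : P.Base → N) (F : Facet P) : dualSolid d F ⊆ solid d :=
  convexHull_mono (Set.image_subset_range _ _)

theorem IsCCS.dualSolid_subset (hd : IsCCS d) (F : Facet P) :
    dualSolid d F ⊆ (⋂ m ∈ F.corners, hyper d m) ∩ ⋂ m ∈ F.corners', halfClosed d m := by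
  apply convexHull_min
  · rintro _ ⟨b', hb', rfl⟩
    refine ⟨?_, ?_⟩
    · simp only [Set.mem_iInter]
      intro m hm
      exact IsCCS.mem_hyper hd (Facet.corners_subset_baseCorners F hb' hm)
    · simp only [Set.mem_iInter]
      intro m _
      exact IsCCS.mem_halfClosed hd b' m
  · exact (convex_iInter₂ fun m _ => convex_hyper d m).inter
      (convex_iInter₂ fun m _ => convex_halfClosed d m)

theorem pairing_sep (v : N) (hv : v ≠ 0) : ∃ ξ : M, P.toLinearMap ξ v ≠ 0 := by
  by_contra hcon
  push Not at hcon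
  apply hv
  apply eq_zero_of_forall_coroot' P.flip
  intro i
  exact hcon (P.root i)

/-- The hard inclusion: a point satisfying the hyperplane and half-space conditions lies in the
dual solid. -/
theorem IsCCS.subset_dualSolid (_hd : IsCCS d) (F : Facet P) :
    (⋂ m ∈ F.corners, hyper d m) ∩ ⋂ m ∈ F.corners', halfClosed d m ⊆ dualSolid d F := by
  rintro x ⟨hx1, hx2⟩
  simp only [Set.mem_iInter] at hx1 hx2
  by_contra hcon
  have hfin : (F.cham).Finite := Set.toFinite _
  have hcon' : x ∉ convexHull R (d '' ((hfin.toFinset : Finset P.Base) : Set P.Base)) := by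
    rw [Set.Finite.coe_toFinset]; exact hcon
  obtain ⟨ξ, hξ⟩ := exists_separating P.toLinearMap pairing_sep hfin.toFinset d x hcon'
  obtain ⟨η, hη⟩ := F.exists_sgnVec_eq
  obtain ⟨b, hbη, hblex⟩ := exists_base_lex (P := P) η ξ
  have hb : b ∈ F.cham := Facet.mem_cham_of_mem F hη hbη
  have hlt := hξ b (hfin.mem_toFinset.mpr hb)
  have hge : P.toLinearMap ξ (d b) ≤ P.toLinearMap ξ x := by
    rw [← sum_fw b ξ]
    simp only [map_sum, map_smul, LinearMap.sum_apply, LinearMap.smul_apply, smul_eq_mul]
    apply Finset.sum_le_sum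
    intro i hi
    by_cases h0 : F.sgn i = 0
    · have hz : P.coroot' i η = 0 := by
        have e : SignType.sign (P.coroot' i η) = F.sgn i := congrFun hη i
        rw [h0] at e; exact sign_eq_zero_iff.mp e
      have hnn := hblex i hi hz
      have hcorner : fw b i ∈ F.corners' := by
        simp only [Facet.corners', Set.mem_iUnion]
        exact ⟨b, hb, fw_mem_baseCorners b hi⟩
      exact mul_le_mul_of_nonneg_left (hx2 _ hcorner b (fw_mem_baseCorners b hi)) hnn
    · have hcorner : fw b i ∈ F.corners := Facet.fw_mem_corners F hb (mem_Jset.mpr ⟨hi, h0⟩)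
      rw [hx1 _ hcorner b (fw_mem_baseCorners b hi)]
  linarith

theorem IsCCS.dualSolid_eq (hd : IsCCS d) (F : Facet P) :
    dualSolid d F = (⋂ m ∈ F.corners, hyper d m) ∩ ⋂ m ∈ F.corners', halfClosed d m :=
  Set.Subset.antisymm (IsCCS.dualSolid_subset hd F) (IsCCS.subset_dualSolid hd F)

end Groth.Agent.H27.Ch
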