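import Groth.Agent.H27.Ch.Fund

set_option autoImplicit false
set_option linter.unusedSectionVars false

/-!
# Existence of chambers: every vector is dominant for some base
-/

namespace Groth.Agent.H27.Ch

open RootPairing RootCh Module

universe u v w x

variable {ι : Type u} {R : Type v} {M : Type w} {N : Type x}
  [Field R] [LinearOrder R] [IsStrictOrderedRing R]
  [AddCommGroup M] [Module R M] [AddCommGroup N] [Module R N]
  {P : RootPairing ι R M N} [Finite ι] [P.IsRootSystem] [P.IsCrystallographic] [P.IsReduced]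

/-- The base attached to a regular vector. -/
theorem exists_base_of_regular (ζ : M) (hζ : ∀ k, P.coroot' k ζ ≠ 0) :
    ∃ b : P.Base, ∀ i ∈ b.support, 0 < P.coroot' i ζ := by
  let f : Dual R N := P.toLinearMap ζ
  have hf : ∀ i, f (P.flip.root i) ≠ 0 := hζ
  have hli := P.flip.linearIndepOn_root_baseOf' f hf
  have hsp : ∀ i, P.flip.root i ∈ AddSubmonoid.closure
        (P.flip.root '' IsAddIndecomposable.baseOf P.flip.root (f : N →+ R)) ∨
      - P.flip.root i ∈ AddSubmonoid.closure
        (P.flip.root '' IsAddIndecomposable.baseOf P.flip.root (f : N →+ R)) := by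
    intro i
    let := P.flip.indexNeg
    exact IsAddIndecomposable.mem_or_neg_mem_closure_baseOf P.flip.root (f : N →+ R) i (hf i)
      (by simp)
  let bf : P.flip.Base := Base.mk' P.flip _ hli hsp
  refine ⟨bf.flip, fun i hi => ?_⟩
  have hi' : i ∈ IsAddIndecomposable.baseOf P.flip.root (f : N →+ R) := by
    have : i ∈ bf.support := hi
    simpa [bf, Base.mk'] using this
  exact IsAddIndecomposable.baseOf_subset_pos _ _ hi'

theorem exists_pert (a c : M) : ∃ T : R, 0 < T ∧ ∀ k,
    (0 < P.coroot' k a → 0 < P.coroot' k (T • a + c)) ∧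
    (P.coroot' k a < 0 → P.coroot' k (T • a + c) < 0) := by
  have := Fintype.ofFinite ι
  set t : ι → R := fun k => |P.coroot' k c| / |P.coroot' k a| with ht
  have ht0 : ∀ k, 0 ≤ t k := fun k => div_nonneg (abs_nonneg _) (abs_nonneg _)
  have hS : ∀ k, t k ≤ ∑ l, t l := fun k =>
    Finset.single_le_sum (f := t) (fun l _ => ht0 l) (Finset.mem_univ k)
  have hS0 : 0 ≤ ∑ l, t l := Finset.sum_nonneg fun l _ => ht0 l
  refine ⟨1 + ∑ l, t l, by linarith, fun k => ⟨fun hu => ?_, fun hu => ?_⟩⟩
  · rw [map_add, map_smul, smul_eq_mul]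
    have h1 : t k * P.coroot' k a = |P.coroot' k c| := by
      rw [ht]; simp only; rw [abs_of_pos hu, div_mul_cancel₀ _ hu.ne']
    have h2 : t k * P.coroot' k a ≤ (∑ l, t l) * P.coroot' k a :=
      mul_le_mul_of_nonneg_right (hS k) hu.le
    have h3 := neg_abs_le (P.coroot' k c)
    nlinarith
  · rw [map_add, map_smul, smul_eq_mul]
    have h1 : t k * P.coroot' k a = - |P.coroot' k c| := by
      rw [ht]; simp only; rw [abs_of_neg hu, div_mul_eq_mul_div, div_eq_iff (neg_ne_zero.mpr hu.ne)]; ring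
    have h2 : (∑ l, t l) * P.coroot' k a ≤ t k * P.coroot' k a :=
      mul_le_mul_of_nonpos_right (hS k) hu.le
    have h3 := le_abs_self (P.coroot' k c)
    nlinarith

/-- For any two vectors `η`, `ξ` there is a base for which `η` is dominant and `ξ` is dominant
with respect to the simple roots orthogonal to `η`. -/
theorem exists_base_lex (η ξ : M) : ∃ b : P.Base, η ∈ closedChamber b ∧
    ∀ i ∈ b.support, P.coroot' i η = 0 → 0 ≤ P.coroot' i ξ := by
  obtain ⟨b₀⟩ := P.nonempty_base
  obtain ⟨T₁, _, hT₁⟩ := exists_pert (P := P) ξ (rho b₀)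
  obtain ⟨T₂, _, hT₂⟩ := exists_pert (P := P) η (T₁ • ξ + rho b₀)
  have hreg1 : ∀ k, P.coroot' k (T₁ • ξ + rho b₀) ≠ 0 := by
    intro k
    rcases lt_trichotomy (P.coroot' k ξ) 0 with h | h | h
    · exact ((hT₁ k).2 h).ne
    · rw [map_add, map_smul, h, smul_zero, zero_add]; exact rho_regular b₀ k
    · exact ((hT₁ k).1 h).ne'
  have hreg2 : ∀ k, P.coroot' k (T₂ • η + (T₁ • ξ + rho b₀)) ≠ 0 := by
    intro k
    rcases lt_trichotomy (P.coroot' k η) 0 with h | h | h
    · exact ((hT₂ k).2 h).ne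
    · rw [map_add, map_smul, h, smul_zero, zero_add]; exact hreg1 k
    · exact ((hT₂ k).1 h).ne'
  obtain ⟨b, hb⟩ := exists_base_of_regular _ hreg2
  refine ⟨b, fun i hi => ?_, fun i hi h0 => ?_⟩
  · by_contra hneg
    push Not at hneg
    exact absurd (hb i hi) (not_lt.mpr ((hT₂ i).2 hneg).le)
  · by_contra hneg
    push Not at hneg
    have h1 := hb i hi
    rw [map_add, map_smul, h0, smul_zero, zero_add] at h1
    exact absurd h1 (not_lt.mpr ((hT₁ i).2 hneg).le)

theorem exists_base_dominant (η : M) : ∃ b : P.Base, η ∈ closedChamber b := by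
  obtain ⟨b, hb, _⟩ := exists_base_lex (P := P) η 0
  exact ⟨b, hb⟩

end Groth.Agent.H27.Ch
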