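import Groth.Agent.H27.Ch.Exists

set_option autoImplicit false
set_option linter.unusedSectionVars false

/-!
# Structure of facets relative to an adjacent chamber
-/

namespace Groth.Agent.H27.Ch

open RootPairing RootCh Module
open scoped Classical

universe u v w x

variable {ι : Type u} {R : Type v} {M : Type w} {N : Type x}
  [Field R] [LinearOrder R] [IsStrictOrderedRing R]
  [AddCommGroup M] [Module R M] [AddCommGroup N] [Module R N]
  {P : RootPairing ι R M N}

theorem st_neg_eq_zero {s : SignType} (h : -s = 0) : s = 0 := by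
  revert h; cases s <;> decide

theorem st_neg_inj {s t : SignType} (h : -s = -t) : s = t := by
  revert h; cases s <;> cases t <;> decide

theorem sgnVec_neg (ξ : M) (k : ι) :
    sgnVec P ξ (P.reflectionPerm k k) = - sgnVec P ξ k := by
  unfold sgnVec; rw [coroot'_neg, Left.sign_neg]

theorem cosgnVec_neg (y : N) (k : ι) :
    cosgnVec P y (P.reflectionPerm k k) = - cosgnVec P y k := by
  unfold cosgnVec; rw [root'_neg, Left.sign_neg]

theorem Facet.sgn_neg (F : Facet P) (k : ι) : F.sgn (P.reflectionPerm k k) = - F.sgn k := by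
  obtain ⟨ξ, hξ⟩ := F.exists_sgnVec_eq
  rw [← hξ]; exact sgnVec_neg ξ k

variable [Finite ι] [P.IsRootSystem] [P.IsCrystallographic] [P.IsReduced]

theorem sgnVec_le_of (b : P.Base) {ξ η : M} (hξ : ξ ∈ closedChamber b) (hη : η ∈ closedChamber b)
    (h : ∀ i ∈ b.support, P.coroot' i η = 0 → P.coroot' i ξ = 0) (k : ι) :
    sgnVec P ξ k = 0 ∨ sgnVec P ξ k = sgnVec P η k := by
  have key : ∀ k, b.IsPos k → (sgnVec P ξ k = 0 ∨ sgnVec P ξ k = sgnVec P η k) := by
    intro k hk
    have hx : 0 ≤ P.coroot' k ξ := coroot'_nonneg_of_isPos hξ hk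
    have hy : 0 ≤ P.coroot' k η := coroot'_nonneg_of_isPos hη hk
    have himp : P.coroot' k η = 0 → P.coroot' k ξ = 0 := by
      have := zero_imp_of_mem_closure (P.toLinearMap ξ).toAddMonoidHom
        (P.toLinearMap η).toAddMonoidHom (s := P.coroot '' (b.support : Set ι))
        (by rintro _ ⟨i, hi, rfl⟩; exact hξ i hi) (by rintro _ ⟨i, hi, rfl⟩; exact hη i hi)
        (by rintro _ ⟨i, hi, rfl⟩; exact h i hi) (coroot_mem_closure_of_isPos b hk)
      exact this
    rcases hx.eq_or_lt with hx0 | hx0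
    · left; unfold sgnVec; rw [← hx0, sign_zero]
    · right
      have hy0 : 0 < P.coroot' k η := by
        rcases hy.eq_or_lt with hy0 | hy0
        · exact absurd (himp hy0.symm) hx0.ne'
        · exact hy0
      unfold sgnVec; rw [sign_pos hx0, sign_pos hy0]
  rcases Base.IsPos.or_neg b k with hk | hk
  · exact key k hk
  · have hk' : b.IsPos (P.reflectionPerm k k) := hk
    have := key _ hk'
    rw [sgnVec_neg, sgnVec_neg] at this
    rcases this with h1 | h1
    · exact Or.inl (st_neg_eq_zero h1)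
    · exact Or.inr (st_neg_inj h1)

theorem sgnVec_eq_of (b : P.Base) {ξ η : M} (hξ : ξ ∈ closedChamber b) (hη : η ∈ closedChamber b)
    (h : ∀ i ∈ b.support, P.coroot' i η = 0 ↔ P.coroot' i ξ = 0) :
    sgnVec P ξ = sgnVec P η := by
  funext k
  have h1 := sgnVec_le_of b hξ hη (fun i hi => (h i hi).mp) k
  have h2 := sgnVec_le_of b hη hξ (fun i hi => (h i hi).mpr) k
  rcases h1 with h1 | h1
  · rcases h2 with h2 | h2
    · rw [h1, h2]
    · rw [h2]
  · exact h1

theorem Facet.mem_cham_of_mem (F : Facet P) {b : P.Base} {ξ : M} (hξ : ξ ∈ F.carrier)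
    (hd : ξ ∈ closedChamber b) : b ∈ F.cham := by
  intro η hη i hi
  have h1 : sgnVec P η i = sgnVec P ξ i := by
    have e1 : sgnVec P η = F.sgn := hη
    have e2 : sgnVec P ξ = F.sgn := hξ
    rw [e1, e2]
  unfold sgnVec at h1
  rw [← sign_nonneg_iff, h1, sign_nonneg_iff]
  exact hd i hi

theorem Facet.exists_cham (F : Facet P) : ∃ b, b ∈ F.cham := by
  obtain ⟨ξ, hξ⟩ := F.exists_sgnVec_eq
  obtain ⟨b, hb⟩ := exists_base_dominant (P := P) ξ
  exact ⟨b, Facet.mem_cham_of_mem F hξ hb⟩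

theorem Facet.sgn_of_isPos (F : Facet P) {b : P.Base} (hb : b ∈ F.cham) {k : ι} (hk : b.IsPos k) :
    F.sgn k = 0 ∨ F.sgn k = 1 := by
  obtain ⟨ξ, hξ⟩ := F.exists_sgnVec_eq
  have h0 : 0 ≤ P.coroot' k ξ := coroot'_nonneg_of_isPos (hb hξ) hk
  rw [← hξ]; unfold sgnVec
  rcases h0.eq_or_lt with h | h
  · left; rw [← h, sign_zero]
  · right; exact sign_pos h

theorem Facet.sgn_simple (F : Facet P) {b : P.Base} (hb : b ∈ F.cham) {i : ι}
    (hi : i ∈ b.support) : F.sgn i = 0 ∨ F.sgn i = 1 :=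
  Facet.sgn_of_isPos F hb (Base.isPos_of_mem_support hi)

theorem Facet.mem_carrier_iff (F : Facet P) {b : P.Base} (hb : b ∈ F.cham) (ξ : M) :
    ξ ∈ F.carrier ↔ ∀ i ∈ b.support,
      (F.sgn i = 0 → P.coroot' i ξ = 0) ∧ (F.sgn i ≠ 0 → 0 < P.coroot' i ξ) := by
  constructor
  · intro hξ i hi
    have e : sgnVec P ξ i = F.sgn i := congrFun hξ i
    unfold sgnVec at e
    refine ⟨fun h => ?_, fun h => ?_⟩
    · rw [h] at e; exact sign_eq_zero_iff.mp e
    · rcases Facet.sgn_simple F hb hi with h1 | h1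
      · exact absurd h1 h
      · rw [h1] at e; exact sign_eq_one_iff.mp e
  · intro h
    obtain ⟨ξ₀, hξ₀⟩ := F.exists_sgnVec_eq
    have hd₀ : ξ₀ ∈ closedChamber b := hb hξ₀
    have hd : ξ ∈ closedChamber b := by
      intro i hi
      by_cases h0 : F.sgn i = 0
      · rw [(h i hi).1 h0]
      · exact ((h i hi).2 h0).le
    have hz₀ : ∀ i ∈ b.support, P.coroot' i ξ₀ = 0 ↔ F.sgn i = 0 := by
      intro i hi
      have e : sgnVec P ξ₀ i = F.sgn i := congrFun hξ₀ i
      unfold sgnVec at e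
      rw [← e, sign_eq_zero_iff]
    have hz : ∀ i ∈ b.support, P.coroot' i ξ = 0 ↔ F.sgn i = 0 := by
      intro i hi
      refine ⟨fun h1 => ?_, (h i hi).1⟩
      by_contra h2
      exact absurd h1 ((h i hi).2 h2).ne'
    show sgnVec P ξ = F.sgn
    rw [← hξ₀]
    exact sgnVec_eq_of b hd hd₀ fun i hi => by rw [hz₀ i hi, hz i hi]

theorem Facet.mem_closure_iff (F : Facet P) {b : P.Base} (hb : b ∈ F.cham) (ξ : M) :
    ξ ∈ F.closure ↔ ∀ i ∈ b.support,
      0 ≤ P.coroot' i ξ ∧ (F.sgn i = 0 → P.coroot' i ξ = 0) := by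
  constructor
  · intro hξ i hi
    have e := hξ i
    unfold sgnVec at e
    rcases Facet.sgn_simple F hb hi with h1 | h1
    · rw [h1] at e
      have : P.coroot' i ξ = 0 := by
        rcases e with e | e <;> exact sign_eq_zero_iff.mp e
      exact ⟨this.ge, fun _ => this⟩
    · rw [h1] at e
      refine ⟨?_, fun h0 => ?_⟩
      · rcases e with e | e
        · exact (sign_eq_zero_iff.mp e).ge
        · exact (sign_eq_one_iff.mp e).le
      · rw [h1] at h0; exact absurd h0 (by decide)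
  · intro h
    obtain ⟨ξ₀, hξ₀⟩ := F.exists_sgnVec_eq
    have hd₀ : ξ₀ ∈ closedChamber b := hb hξ₀
    have hd : ξ ∈ closedChamber b := fun i hi => (h i hi).1
    intro k
    rw [← hξ₀]
    apply sgnVec_le_of b hd hd₀
    intro i hi h0
    apply (h i hi).2
    have e : sgnVec P ξ₀ i = F.sgn i := congrFun hξ₀ i
    unfold sgnVec at e
    rw [← e, h0, sign_zero]

theorem Facet.corners_eq (F : Facet P) {b : P.Base} (hb : b ∈ F.cham) :
    F.corners = fw b '' {i | i ∈ b.support ∧ F.sgn i ≠ 0} := by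
  ext w
  constructor
  · rintro ⟨hw1, hw2⟩
    rw [Facet.mem_closure_iff F hb] at hw2
    have hwd : w ∈ closedChamber b := fun i hi => (hw2 i hi).1
    have hwb : w ∈ baseCorners b := ⟨hw1, hwd⟩
    rw [baseCorners_eq] at hwb
    obtain ⟨i, hi, rfl⟩ := hwb
    refine ⟨i, ⟨hi, fun h0 => ?_⟩, rfl⟩
    have := (hw2 i hi).2 h0
    rw [coroot'_fw b hi hi, if_pos rfl] at this
    exact one_ne_zero this
  · rintro ⟨i, ⟨hi, hne⟩, rfl⟩
    refine ⟨fw_mem_fundWeights b hi, ?_⟩
    rw [Facet.mem_closure_iff F hb]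
    intro l hl
    rw [coroot'_fw b hi hl]
    refine ⟨by split_ifs <;> norm_num, fun h0 => ?_⟩
    rw [if_neg]
    rintro rfl
    exact hne h0

theorem Facet.corners_subset_baseCorners (F : Facet P) {b : P.Base} (hb : b ∈ F.cham) :
    F.corners ⊆ baseCorners b := by
  rw [Facet.corners_eq F hb, baseCorners_eq]
  rintro _ ⟨i, ⟨hi, _⟩, rfl⟩
  exact ⟨i, hi, rfl⟩

theorem cham_ofVec {b : P.Base} {ξ : M} (hξ : ξ ∈ closedChamber b) :
    b ∈ (Facet.ofVec P ξ).cham :=
  Facet.mem_cham_of_mem (Facet.ofVec P ξ) (ξ := ξ) rfl hξ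

theorem coroot'_sum_fw (b : P.Base) (T : Finset ι) (hT : T ⊆ b.support) {i : ι}
    (hi : i ∈ b.support) : P.coroot' i (∑ j ∈ T, fw b j) = if i ∈ T then 1 else 0 := by
  rw [map_sum]
  rw [Finset.sum_congr rfl fun j hj => coroot'_fw b (hT hj) hi]
  rw [Finset.sum_ite_eq]

theorem sum_fw_mem_closedChamber (b : P.Base) (T : Finset ι) (hT : T ⊆ b.support) :
    (∑ j ∈ T, fw b j) ∈ closedChamber b := by
  intro i hi
  rw [coroot'_sum_fw b T hT hi]
  split_ifs <;> norm_num

theorem sgn_ofVec_sum_fw (b : P.Base) (T : Finset ι) (hT : T ⊆ b.support) {i : ι}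
    (hi : i ∈ b.support) : (Facet.ofVec P (∑ j ∈ T, fw b j)).sgn i ≠ 0 ↔ i ∈ T := by
  show sgnVec P _ i ≠ 0 ↔ _
  unfold sgnVec
  rw [coroot'_sum_fw b T hT hi]
  by_cases h : i ∈ T
  · simp [h]
  · simp [h]

theorem corners_ofVec_sum (b : P.Base) (T : Finset ι) (hT : T ⊆ b.support) :
    (Facet.ofVec P (∑ j ∈ T, fw b j)).corners = fw b '' (T : Set ι) := by
  rw [Facet.corners_eq _ (cham_ofVec (sum_fw_mem_closedChamber b T hT))]
  congr 1
  ext i
  constructor
  · rintro ⟨hi, hne⟩; exact (sgn_ofVec_sum_fw b T hT hi).mp hne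
  · intro hi; exact ⟨hT hi, (sgn_ofVec_sum_fw b T hT (hT hi)).mpr hi⟩

theorem linearIndepOn_fw (b : P.Base) : LinearIndepOn R (fw b) (b.support : Set ι) := by
  rw [linearIndepOn_iff']
  intro t g ht hsum i hi
  have := congrArg (P.coroot' i) hsum
  rw [map_sum, map_zero] at this
  rw [Finset.sum_eq_single_of_mem i hi] at this
  · rw [map_smul, coroot'_fw b (ht hi) (ht hi), if_pos rfl, smul_eq_mul, mul_one] at this
    exact this
  · intro l hl hli
    rw [map_smul, coroot'_fw b (ht hl) (ht hi), if_neg (Ne.symm hli), smul_zero]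

theorem Facet.linearIndepOn_corners (F : Facet P) : LinearIndepOn R (fun m : M => m) F.corners := by
  obtain ⟨b, hb⟩ := Facet.exists_cham F
  rw [Facet.corners_eq F hb]
  exact ((linearIndepOn_fw b).mono fun i hi => hi.1).id_image

end Groth.Agent.H27.Ch
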