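import Groth.Agent.H27.Ch.Facet

set_option autoImplicit false
set_option linter.unusedSectionVars false

/-!
# Facets: positive combinations of corners, dual facets, modification of corners
-/

namespace Groth.Agent.H27.Ch

open RootPairing RootCh Module
open scoped Classical

universe u v w x

variable {ι : Type u} {R : Type v} {M : Type w} {N : Type x}
  [Field R] [LinearOrder R] [IsStrictOrderedRing R]
  [AddCommGroup M] [Module R M] [AddCommGroup N] [Module R N]
  {P : RootPairing ι R M N} [Finite ι] [P.IsRootSystem] [P.IsCrystallographic] [P.IsReduced]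

/-- The simple roots of `b` that are non-zero on `F`. -/
noncomputable def Jset (F : Facet P) (b : P.Base) : Finset ι :=
  b.support.filter (fun i => F.sgn i ≠ 0)

theorem mem_Jset {F : Facet P} {b : P.Base} {i : ι} :
    i ∈ Jset F b ↔ i ∈ b.support ∧ F.sgn i ≠ 0 := Finset.mem_filter

theorem Jset_subset (F : Facet P) (b : P.Base) : Jset F b ⊆ b.support := Finset.filter_subset _ _

theorem Facet.corners_eq' (F : Facet P) {b : P.Base} (hb : b ∈ F.cham) :
    F.corners = fw b '' (Jset F b : Set ι) := by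
  rw [Facet.corners_eq F hb]
  congr 1
  ext i
  simp [mem_Jset]

theorem Facet.exists_of_mem_corners (F : Facet P) {b : P.Base} (hb : b ∈ F.cham) {m : M}
    (hm : m ∈ F.corners) : ∃ j ∈ Jset F b, fw b j = m := by
  rw [Facet.corners_eq' F hb] at hm
  obtain ⟨j, hj, rfl⟩ := hm
  exact ⟨j, hj, rfl⟩

theorem Facet.fw_mem_corners (F : Facet P) {b : P.Base} (hb : b ∈ F.cham) {j : ι}
    (hj : j ∈ Jset F b) : fw b j ∈ F.corners := by
  rw [Facet.corners_eq' F hb]; exact ⟨j, hj, rfl⟩

theorem Facet.sum_Jset (F : Facet P) {b : P.Base} (hb : b ∈ F.cham) {ξ : M} (hξ : ξ ∈ F.carrier) :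
    ∑ i ∈ Jset F b, P.coroot' i ξ • fw b i = ξ := by
  conv_rhs => rw [← sum_fw b ξ]
  rw [Jset, Finset.sum_filter]
  apply Finset.sum_congr rfl
  intro i hi
  split_ifs with h
  · rfl
  · push Not at h
    rw [((Facet.mem_carrier_iff F hb ξ).mp hξ i hi).1 h, zero_smul]

/-- A vector of the facet is a combination of its corners with positive coefficients. -/
theorem Facet.carrier_eq_pos_comb (F : Facet P) :
    F.carrier = {ξ : M | ∃ c : M →₀ R, (c.support : Set M) ⊆ F.corners ∧
      (∀ m ∈ F.corners, 0 < c m) ∧ c.sum (fun m r => r • m) = ξ} := by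
  obtain ⟨b, hb⟩ := Facet.exists_cham F
  ext ξ
  constructor
  · intro hξ
    refine ⟨∑ i ∈ Jset F b, Finsupp.single (fw b i) (P.coroot' i ξ), ?_, ?_, ?_⟩
    · intro m hm
      rw [Finset.mem_coe, Finsupp.mem_support_iff, Finsupp.finsetSum_apply] at hm
      by_contra hcon
      apply hm
      apply Finset.sum_eq_zero
      intro i hi
      rw [Finsupp.single_apply, if_neg]
      rintro rfl
      exact hcon (Facet.fw_mem_corners F hb hi)
    · intro m hm
      obtain ⟨j, hj, rfl⟩ := Facet.exists_of_mem_corners F hb hm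
      rw [Finsupp.finsetSum_apply, Finset.sum_eq_single_of_mem j hj]
      · rw [Finsupp.single_apply, if_pos rfl]
        exact ((Facet.mem_carrier_iff F hb ξ).mp hξ j (mem_Jset.mp hj).1).2 (mem_Jset.mp hj).2
      · intro i hi hij
        rw [Finsupp.single_apply, if_neg]
        intro h
        exact hij (fw_injective b (mem_Jset.mp hi).1 (mem_Jset.mp hj).1 h)
    · rw [← Finsupp.sum_finsetSum_index (by intro a; simp) (by intro a r s; simp [add_smul])]
      rw [Finset.sum_congr rfl fun i _ => Finsupp.sum_single_index (zero_smul R (fw b i))]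
      exact Facet.sum_Jset F hb hξ
  · rintro ⟨c, hc1, hc2, rfl⟩
    rw [Facet.mem_carrier_iff F hb]
    intro i hi
    have hexp : P.coroot' i (c.sum fun m r => r • m) = ∑ m ∈ c.support, c m * P.coroot' i m := by
      rw [Finsupp.sum, map_sum]
      exact Finset.sum_congr rfl fun m _ => by rw [map_smul, smul_eq_mul]
    rw [hexp]
    refine ⟨fun h0 => ?_, fun hne => ?_⟩
    · apply Finset.sum_eq_zero
      intro m hm
      obtain ⟨j, hj, rfl⟩ := Facet.exists_of_mem_corners F hb (hc1 hm)
      rw [coroot'_fw b (mem_Jset.mp hj).1 hi, if_neg, mul_zero]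
      rintro rfl
      exact (mem_Jset.mp hj).2 h0
    · have hiJ : i ∈ Jset F b := mem_Jset.mpr ⟨hi, hne⟩
      have hm₀ : fw b i ∈ F.corners := Facet.fw_mem_corners F hb hiJ
      have hpos := hc2 _ hm₀
      have hsupp : fw b i ∈ c.support := Finsupp.mem_support_iff.mpr hpos.ne'
      rw [Finset.sum_eq_single_of_mem _ hsupp]
      · rw [coroot'_fw b hi hi, if_pos rfl, mul_one]; exact hpos
      · intro m hm hne'
        obtain ⟨j, hj, rfl⟩ := Facet.exists_of_mem_corners F hb (hc1 hm)
        rw [coroot'_fw b (mem_Jset.mp hj).1 hi, if_neg, mul_zero]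
        rintro rfl
        exact hne' rfl

theorem Facet.carrier_subset_span_corners (F : Facet P) :
    F.carrier ⊆ (Submodule.span R F.corners : Set M) := by
  intro ξ hξ
  rw [Facet.carrier_eq_pos_comb] at hξ
  obtain ⟨c, hc1, _, rfl⟩ := hξ
  rw [Finsupp.sum]
  exact Submodule.sum_mem _ fun m hm =>
    Submodule.smul_mem _ _ (Submodule.subset_span (hc1 hm))

theorem Facet.sum_Jset_mem_carrier (F : Facet P) {b : P.Base} (hb : b ∈ F.cham) :
    (∑ j ∈ Jset F b, fw b j) ∈ F.carrier := by
  rw [Facet.mem_carrier_iff F hb]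
  intro i hi
  rw [coroot'_sum_fw b _ (Jset_subset F b) hi]
  refine ⟨fun h0 => ?_, fun hne => ?_⟩
  · rw [if_neg]; intro h; exact (mem_Jset.mp h).2 h0
  · rw [if_pos (mem_Jset.mpr ⟨hi, hne⟩)]; exact one_pos

theorem Facet.span_carrier_eq (F : Facet P) :
    Submodule.span R F.carrier = Submodule.span R F.corners := by
  obtain ⟨b, hb⟩ := Facet.exists_cham F
  apply le_antisymm
  · exact Submodule.span_le.mpr (Facet.carrier_subset_span_corners F)
  · apply Submodule.span_le.mpr
    intro m hm
    obtain ⟨j, hj, rfl⟩ := Facet.exists_of_mem_corners F hb hm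
    have h1 := Facet.sum_Jset_mem_carrier F hb
    have h2 : (∑ l ∈ Jset F b, fw b l) + fw b j ∈ F.carrier := by
      rw [Facet.mem_carrier_iff F hb]
      intro i hi
      rw [map_add, coroot'_sum_fw b _ (Jset_subset F b) hi,
        coroot'_fw b (mem_Jset.mp hj).1 hi]
      refine ⟨fun h0 => ?_, fun hne => ?_⟩
      · rw [if_neg, if_neg, add_zero]
        · rintro rfl; exact (mem_Jset.mp hj).2 h0
        · intro h; exact (mem_Jset.mp h).2 h0
      · rw [if_pos (mem_Jset.mpr ⟨hi, hne⟩)]
        split_ifs <;> norm_num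
    have : fw b j = ((∑ l ∈ Jset F b, fw b l) + fw b j) - ∑ l ∈ Jset F b, fw b l := by abel
    rw [SetLike.mem_coe, this]
    exact Submodule.sub_mem _ (Submodule.subset_span h2) (Submodule.subset_span h1)

theorem Facet.ext_corners {F G : Facet P} (h : G.corners = F.corners) : G = F := by
  obtain ⟨ξ, hξ⟩ := G.exists_sgnVec_eq
  have h1 : ξ ∈ G.carrier := hξ
  rw [Facet.carrier_eq_pos_comb, h, ← Facet.carrier_eq_pos_comb] at h1
  have h2 : sgnVec P ξ = F.sgn := h1
  apply Facet.ext
  rw [← hξ, h2]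

/-! ### Modifying the set of corners -/

theorem Facet.exists_corners_eq_diff (F : Facet P) (m : M) (hm : m ∈ F.corners) :
    ∃ G : Facet P, G.corners = F.corners \ {m} := by
  obtain ⟨b, hb⟩ := Facet.exists_cham F
  obtain ⟨j₀, hj₀, rfl⟩ := Facet.exists_of_mem_corners F hb hm
  refine ⟨Facet.ofVec P (∑ j ∈ (Jset F b).erase j₀, fw b j), ?_⟩
  have hsub : (Jset F b).erase j₀ ⊆ b.support :=
    (Finset.erase_subset _ _).trans (Jset_subset F b)
  rw [corners_ofVec_sum b _ hsub, Facet.corners_eq' F hb]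
  ext w
  constructor
  · rintro ⟨j, hj, rfl⟩
    rw [Finset.mem_coe, Finset.mem_erase] at hj
    refine ⟨⟨j, hj.2, rfl⟩, fun h => hj.1 ?_⟩
    exact fw_injective b (mem_Jset.mp hj.2).1 (mem_Jset.mp hj₀).1 h
  · rintro ⟨⟨j, hj, rfl⟩, hne⟩
    refine ⟨j, ?_, rfl⟩
    rw [Finset.mem_coe, Finset.mem_erase]
    refine ⟨?_, hj⟩
    rintro rfl
    exact hne rfl

theorem Facet.exists_corners_eq_insert (F : Facet P) (m : M) (hm : m ∈ F.corners') :
    ∃ G : Facet P, G.corners = insert m F.corners := by
  simp only [Facet.corners', Set.mem_iUnion] at hm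
  obtain ⟨b, hb, hmb⟩ := hm
  rw [baseCorners_eq] at hmb
  obtain ⟨i₀, hi₀, rfl⟩ := hmb
  refine ⟨Facet.ofVec P (∑ j ∈ insert i₀ (Jset F b), fw b j), ?_⟩
  have hsub : insert i₀ (Jset F b) ⊆ b.support := by
    intro l hl
    rcases Finset.mem_insert.mp hl with rfl | hl
    · exact hi₀
    · exact Jset_subset F b hl
  rw [corners_ofVec_sum b _ hsub, Facet.corners_eq' F hb, Finset.coe_insert, Set.image_insert_eq]

/-! ### Dual facets -/

/-- The polarization map `M → N` of the canonical bilinear form. -/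
noncomputable def pol (P : RootPairing ι R M N) (ξ : M) : N :=
  letI := Fintype.ofFinite ι
  P.Polarization ξ

theorem cosgnVec_pol (ξ : M) : cosgnVec P (pol P ξ) = sgnVec P ξ := by
  let := Fintype.ofFinite ι
  funext k
  unfold cosgnVec sgnVec
  have h1 : P.root' k (pol P ξ) = P.RootForm ξ (P.root k) :=
    P.toLinearMap_apply_apply_Polarization ξ (P.root k)
  have h2 := coroot'_eq_rootForm P ξ k
  have hp := rootForm_root_pos P k
  rw [h1, h2]
  rcases lt_trichotomy (P.RootForm ξ (P.root k)) 0 with h | h | h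
  · rw [sign_neg h, sign_neg]
    exact div_neg_of_neg_of_pos (by linarith) hp
  · rw [h]; simp
  · rw [sign_pos h, sign_pos]
    positivity

/-- The dual facet, as a facet of the dual root system. -/
noncomputable def dualFacet (F : Facet P) : Facet P.flip :=
  ⟨F.sgn, by
    obtain ⟨ξ, hξ⟩ := F.exists_sgnVec_eq
    exact ⟨pol P ξ, (cosgnVec_pol ξ).trans hξ⟩⟩

theorem dualFacet_sgn (F : Facet P) : (dualFacet F).sgn = F.sgn := rfl

theorem dualFacet_carrier (F : Facet P) : (dualFacet F).carrier = F.dualCarrier := rfl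

theorem dualFacet_closure (F : Facet P) : (dualFacet F).closure = F.dualClosure := rfl

theorem dualFacet_corners (F : Facet P) : (dualFacet F).corners = F.dualCorners := rfl

theorem flip_mem_cham_dualFacet (F : Facet P) {b : P.Base} (hb : b ∈ F.cham) :
    b.flip ∈ (dualFacet F).cham := by
  intro x hx i hi
  have e : sgnVec P.flip x i = F.sgn i := congrFun hx i
  have e' : SignType.sign (P.root' i x) = F.sgn i := e
  show 0 ≤ P.root' i x
  rcases Facet.sgn_simple F hb hi with h | h
  · rw [h] at e'; exact (sign_eq_zero_iff.mp e').ge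
  · rw [h] at e'; exact (sign_eq_one_iff.mp e').le

theorem Facet.dualCorners_eq (F : Facet P) {b : P.Base} (hb : b ∈ F.cham) :
    F.dualCorners = fcw b '' (Jset F b : Set ι) := by
  rw [← dualFacet_corners, Facet.corners_eq' (dualFacet F) (flip_mem_cham_dualFacet F hb)]
  rfl

theorem Facet.dualCorners_eq_corr (F : Facet P) :
    F.dualCorners = {y : N | ∃ m ∈ F.corners, Corr P m y} := by
  obtain ⟨b, hb⟩ := Facet.exists_cham F
  rw [Facet.dualCorners_eq F hb]
  ext y
  constructor
  · rintro ⟨j, hj, rfl⟩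
    exact ⟨fw b j, Facet.fw_mem_corners F hb hj, (corr_fw_iff b (mem_Jset.mp hj).1 _).mpr rfl⟩
  · rintro ⟨m, hm, hcorr⟩
    obtain ⟨j, hj, rfl⟩ := Facet.exists_of_mem_corners F hb hm
    exact ⟨j, hj, ((corr_fw_iff b (mem_Jset.mp hj).1 _).mp hcorr).symm⟩

end Groth.Agent.H27.Ch
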