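import Groth.Agent.H27.Ch.Refl

set_option autoImplicit false
set_option linter.unusedSectionVars false

/-!
# Fundamental weights and coweights, indexed by all of `ι`
-/

namespace Groth.Agent.H27.Ch

open RootPairing RootCh Module
open scoped Classical

universe u v w x

variable {ι : Type u} {R : Type v} {M : Type w} {N : Type x}
  [Field R] [LinearOrder R] [IsStrictOrderedRing R]
  [AddCommGroup M] [Module R M] [AddCommGroup N] [Module R N]
  {P : RootPairing ι R M N} [Finite ι] [P.IsRootSystem] [P.IsCrystallographic] [P.IsReduced]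

/-- Fundamental weight of `b` at the index `i` (zero if `i` is not simple). -/
noncomputable def fw (b : P.Base) (i : ι) : M :=
  if h : i ∈ b.support then fundWeight b ⟨i, h⟩ else 0

/-- Fundamental coweight of `b` at the index `i` (zero if `i` is not simple). -/
noncomputable def fcw (b : P.Base) (i : ι) : N := fw (P := P.flip) b.flip i

theorem fw_eq (b : P.Base) (i : b.support) : fw b i = fundWeight b i := by
  rw [fw, dif_pos i.2]

theorem fcw_eq (b : P.Base) (i : b.support) : fcw b i = fundCoweight b i := by
  rw [fcw, fw, dif_pos (show (i : ι) ∈ b.flip.support from i.2)]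
  rfl

theorem coroot'_fw (b : P.Base) {i j : ι} (hi : i ∈ b.support) (hj : j ∈ b.support) :
    P.coroot' j (fw b i) = if j = i then 1 else 0 := by
  rw [fw, dif_pos hi]
  have := coroot'_fundWeight b ⟨i, hi⟩ ⟨j, hj⟩
  simp only [Subtype.mk.injEq] at this
  convert this using 2

theorem root'_fcw (b : P.Base) {i j : ι} (hi : i ∈ b.support) (hj : j ∈ b.support) :
    P.root' j (fcw b i) = if j = i then 1 else 0 :=
  coroot'_fw (P := P.flip) b.flip hi hj

theorem fw_eq_iff (b : P.Base) {i : ι} (hi : i ∈ b.support) (w : M) :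
    fw b i = w ↔ ∀ j ∈ b.support, P.coroot' j w = if j = i then 1 else 0 := by
  constructor
  · rintro rfl j hj; exact coroot'_fw b hi hj
  · intro h
    apply eq_of_forall_simple P b
    intro j hj
    rw [coroot'_fw b hi hj, h j hj]

theorem fcw_eq_iff (b : P.Base) {i : ι} (hi : i ∈ b.support) (y : N) :
    fcw b i = y ↔ ∀ j ∈ b.support, P.root' j y = if j = i then 1 else 0 :=
  fw_eq_iff (P := P.flip) b.flip hi y

theorem sum_fw (b : P.Base) (ξ : M) : ∑ i ∈ b.support, P.coroot' i ξ • fw b i = ξ := by
  apply eq_of_forall_simple P b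
  intro j hj
  rw [map_sum]
  rw [Finset.sum_eq_single_of_mem j hj]
  · rw [map_smul, coroot'_fw b hj hj, if_pos rfl, smul_eq_mul, mul_one]
  · intro l hl hlj
    rw [map_smul, coroot'_fw b hl hj, if_neg (Ne.symm hlj), smul_zero]

theorem sum_fcw (b : P.Base) (y : N) : ∑ i ∈ b.support, P.root' i y • fcw b i = y :=
  sum_fw (P := P.flip) b.flip y

theorem fw_injective (b : P.Base) {i j : ι} (hi : i ∈ b.support) (hj : j ∈ b.support)
    (h : fw b i = fw b j) : i = j := by
  have h1 := coroot'_fw b hi hi
  rw [h, coroot'_fw b hj hi, if_pos rfl] at h1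
  by_contra hne
  rw [if_neg hne] at h1
  exact zero_ne_one h1

theorem fw_ne_zero (b : P.Base) {i : ι} (hi : i ∈ b.support) : fw b i ≠ 0 := by
  intro h
  have h1 := coroot'_fw b hi hi
  rw [h, map_zero, if_pos rfl] at h1
  exact zero_ne_one h1

theorem fw_mem_fundWeights (b : P.Base) {i : ι} (hi : i ∈ b.support) : fw b i ∈ fundWeights P :=
  ⟨b, ⟨i, hi⟩, (fw_eq b ⟨i, hi⟩).symm⟩

theorem fw_mem_closedChamber (b : P.Base) {i : ι} (hi : i ∈ b.support) :
    fw b i ∈ closedChamber b := by
  intro j hj
  rw [coroot'_fw b hi hj]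
  split_ifs <;> norm_num

/-- An element of `N` is determined by its pairings with the fundamental weights. -/
theorem eq_of_forall_fw (b : P.Base) {y y' : N}
    (h : ∀ l ∈ b.support, P.toLinearMap (fw b l) y = P.toLinearMap (fw b l) y') : y = y' := by
  apply eq_of_forall_coroot' P.flip
  intro i
  show P.toLinearMap (P.root i) y = P.toLinearMap (P.root i) y'
  rw [← sum_fw b (P.root i)]
  simp only [map_sum, map_smul, LinearMap.sum_apply, LinearMap.smul_apply]
  exact Finset.sum_congr rfl fun l hl => by rw [h l hl]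

/-- Expansion of an element of `N` in the simple coroots. -/
theorem sum_pairing_fw_coroot (b : P.Base) (y : N) :
    ∑ i ∈ b.support, P.toLinearMap (fw b i) y • P.coroot i = y := by
  apply eq_of_forall_fw b
  intro l hl
  rw [map_sum]
  rw [Finset.sum_eq_single_of_mem l hl]
  · rw [map_smul]
    have : P.toLinearMap (fw b l) (P.coroot l) = 1 := by
      have := coroot'_fw b hl hl
      rw [if_pos rfl] at this; exact this
    rw [this, smul_eq_mul, mul_one]
  · intro k hk hkl
    rw [map_smul]
    have : P.toLinearMap (fw b l) (P.coroot k) = 0 := by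
      have := coroot'_fw b hl hk
      rw [if_neg hkl] at this; exact this
    rw [this, smul_zero]

theorem fw_congr {b b' : P.Base} (h : b = b') (i : ι) : fw b i = fw b' i := by rw [h]

/-- Fundamental weights of the reflected base: those not attached to the wall are unchanged. -/
theorem fw_sBase_of_ne (b : P.Base) {j l : ι} (hj : j ∈ b.support) (hl : l ∈ b.support)
    (hlj : l ≠ j) : fw (sBase b j) (P.reflectionPerm j l) = fw b l := by
  rw [fw_eq_iff _ (perm_mem_sBase_support b j hl)]
  intro k' hk'
  rw [mem_sBase_support] at hk'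
  have e1 : P.coroot k' = P.coreflection j (P.coroot (P.reflectionPerm j k')) := by
    rw [← P.coroot_reflectionPerm, P.reflectionPerm_self]
  show P.toLinearMap (fw b l) (P.coroot k') = _
  rw [e1, P.coreflection_apply, map_sub, map_smul]
  have h1 : P.toLinearMap (fw b l) (P.coroot (P.reflectionPerm j k')) =
      if P.reflectionPerm j k' = l then 1 else 0 := coroot'_fw b hl hk'
  have h2 : P.toLinearMap (fw b l) (P.coroot j) = 0 := by
    have := coroot'_fw b hl hj
    rw [if_neg (Ne.symm hlj)] at this; exact this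
  rw [h1, h2, smul_zero, sub_zero]
  have : (P.reflectionPerm j k' = l) ↔ (k' = P.reflectionPerm j l) := by
    constructor
    · intro h; rw [← h, P.reflectionPerm_self]
    · intro h; rw [h, P.reflectionPerm_self]
  simp only [this]

theorem fcw_sBase_of_ne (b : P.Base) {j l : ι} (hj : j ∈ b.support) (hl : l ∈ b.support)
    (hlj : l ≠ j) : fcw (sBase b j) (P.reflectionPerm j l) = fcw b l := by
  have := fw_sBase_of_ne (P := P.flip) b.flip hj hl hlj
  rw [fcw, fcw, ← this]
  exact fw_congr (P := P.flip) (sBase_flip b j) _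

/-- A fundamental weight of `b'` lying in the closed chamber of `b` is a fundamental weight of
`b`, with the same corresponding coweight. -/
theorem exists_fw_eq_of_mem_closedChamber (b : P.Base) :
    ∀ (b' : P.Base) (i' : ι), i' ∈ b'.support → fw b' i' ∈ closedChamber b →
      ∃ i ∈ b.support, fw b i = fw b' i' ∧ fcw b i = fcw b' i' := by
  intro b'
  induction b' using base_induction b with
  | h0 => intro i' hi' _; exact ⟨i', hi', rfl, rfl⟩
  | hstep c j hj hjpos ih =>
    intro i' hi' hmem
    have hl : P.reflectionPerm j i' ∈ c.support := (mem_sBase_support c j i').mp hi'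
    by_cases hlj : P.reflectionPerm j i' = j
    · exfalso
      have hi'eq : i' = P.reflectionPerm j j := by
        have := congrArg (P.reflectionPerm j) hlj
        rwa [P.reflectionPerm_self] at this
      have h1 : P.coroot' i' (fw (sBase c j) i') = 1 := by
        rw [coroot'_fw _ hi' hi', if_pos rfl]
      have h2 : 0 ≤ P.coroot' j (fw (sBase c j) i') := coroot'_nonneg_of_isPos hmem hjpos
      rw [hi'eq, coroot'_neg] at h1
      rw [hi'eq] at h2
      linarith
    · have e1 := fw_sBase_of_ne c hj hl hlj
      have e2 := fcw_sBase_of_ne c hj hl hlj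
      rw [P.reflectionPerm_self] at e1 e2
      rw [e1] at hmem
      obtain ⟨i, hi, h3, h4⟩ := ih _ hl hmem
      exact ⟨i, hi, h3.trans e1.symm, h4.trans e2.symm⟩

theorem baseCorners_eq (b : P.Base) : baseCorners b = (fw b) '' (b.support : Set ι) := by
  ext w
  constructor
  · rintro ⟨⟨b', i', rfl⟩, hw⟩
    rw [← fw_eq] at hw ⊢
    obtain ⟨i, hi, h3, _⟩ := exists_fw_eq_of_mem_closedChamber b b' i' i'.2 hw
    exact ⟨i, hi, h3⟩
  · rintro ⟨i, hi, rfl⟩
    exact ⟨fw_mem_fundWeights b hi, fw_mem_closedChamber b hi⟩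

theorem fw_mem_baseCorners (b : P.Base) {i : ι} (hi : i ∈ b.support) : fw b i ∈ baseCorners b := by
  rw [baseCorners_eq]; exact ⟨i, hi, rfl⟩

/-- The coweight corresponding to a fundamental weight is well defined. -/
theorem corr_fw_iff (b : P.Base) {i : ι} (hi : i ∈ b.support) (y : N) :
    Corr P (fw b i) y ↔ y = fcw b i := by
  constructor
  · rintro ⟨b', i', h1, h2⟩
    rw [← fw_eq] at h1
    rw [← fcw_eq] at h2
    have hmem : fw b' i' ∈ closedChamber b := by rw [h1]; exact fw_mem_closedChamber b hi
    obtain ⟨i₂, hi₂, h3, h4⟩ := exists_fw_eq_of_mem_closedChamber b b' i' i'.2 hmem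
    have : i₂ = i := fw_injective b hi₂ hi (h3.trans h1)
    rw [← h2, ← h4, this]
  · rintro rfl
    exact ⟨b, ⟨i, hi⟩, (fw_eq b ⟨i, hi⟩).symm, (fcw_eq b ⟨i, hi⟩).symm⟩

end Groth.Agent.H27.Ch
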