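import Groth.Agent.H27.Ch.Facet2

set_option autoImplicit false
set_option linter.unusedSectionVars false

/-!
# Parabolic sets of roots and facets
-/

namespace Groth.Agent.H27.Ch

open RootPairing RootCh Module
open scoped Classical

universe u v w x

variable {ι : Type u} {R : Type v} {M : Type w} {N : Type x}
  [Field R] [LinearOrder R] [IsStrictOrderedRing R]
  [AddCommGroup M] [Module R M] [AddCommGroup N] [Module R N]
  {P : RootPairing ι R M N} [Finite ι] [P.IsRootSystem] [P.IsCrystallographic] [P.IsReduced]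

theorem st_eq_one_of_neg {s : SignType} (h : -s = -1) : s = 1 := by
  revert h; cases s <;> decide

instance instFiniteBase : Finite P.Base :=
  Finite.of_injective (fun b : P.Base => b.support) (fun _ _ h => Base.ext_support h)

/-- Relation between the pairings with the coroots of `k = i + j`. -/
theorem coroot'_add_rel [Fintype ι] (ξ : M) {i j k : ι} (h : P.root k = P.root i + P.root j) :
    P.coroot' k ξ * P.RootForm (P.root k) (P.root k) =
      P.coroot' i ξ * P.RootForm (P.root i) (P.root i) +
        P.coroot' j ξ * P.RootForm (P.root j) (P.root j) := by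
  rw [← two_mul_rootForm_root, ← two_mul_rootForm_root, ← two_mul_rootForm_root, h, map_add]
  ring

theorem pairing_rel [Fintype ι] (i k : ι) :
    P.pairing i k * P.RootForm (P.root k) (P.root k) =
      P.pairing k i * P.RootForm (P.root i) (P.root i) := by
  have h1 := two_mul_rootForm_root P (P.root i) k
  have h2 := two_mul_rootForm_root P (P.root k) i
  rw [P.root_coroot'_eq_pairing] at h1 h2
  have h3 : P.RootForm (P.root i) (P.root k) = P.RootForm (P.root k) (P.root i) :=
    P.rootForm_symmetric.eq _ _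
  rw [← h1, ← h2, h3]

theorem cosgnVec_fcw (b : P.Base) {i : ι} (hi : i ∈ b.support) :
    cosgnVec P (fcw b i) = sgnVec P (fw b i) := by
  let := Fintype.ofFinite ι
  have hc := rootForm_root_pos P i
  have key : pol P (fw b i) = (P.RootForm (P.root i) (P.root i) / 2) • fcw b i := by
    apply eq_of_forall_simple P.flip b.flip
    intro l hl
    show P.root' l (pol P (fw b i)) = P.root' l (_ • fcw b i)
    have h1 : P.root' l (pol P (fw b i)) = P.RootForm (fw b i) (P.root l) :=
      P.toLinearMap_apply_apply_Polarization (fw b i) (P.root l)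
    have h2 := two_mul_rootForm_root P (fw b i) l
    rw [coroot'_fw b hi hl] at h2
    rw [h1, map_smul, root'_fcw b hi hl, smul_eq_mul]
    by_cases hli : l = i
    · subst hli; rw [if_pos rfl] at h2 ⊢; linarith
    · rw [if_neg hli] at h2 ⊢; linarith
  rw [← cosgnVec_pol (P := P) (fw b i)]
  funext k
  unfold cosgnVec
  rw [key, map_smul, smul_eq_mul]
  have hc2 : 0 < P.RootForm (P.root i) (P.root i) / 2 := by positivity
  rcases lt_trichotomy (P.root' k (fcw b i)) 0 with h | h | h
  · rw [sign_neg h, sign_neg (mul_neg_of_pos_of_neg hc2 h)]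
  · rw [h, mul_zero]
  · rw [sign_pos h, sign_pos (mul_pos hc2 h)]

theorem Facet.corners_eq_parab (F : Facet P) :
    F.corners = {m : M | m ∈ fundWeights P ∧
      ∀ y : N, Corr P m y → ∀ i ∈ F.parab, 0 ≤ P.root' i y} := by
  ext m
  constructor
  · intro hm
    refine ⟨hm.1, fun y hy i hi => ?_⟩
    have hy' : y ∈ F.dualCorners := by
      rw [Facet.dualCorners_eq_corr]; exact ⟨m, hm, hy⟩
    have := hy'.2 i
    unfold cosgnVec at this
    by_contra hneg
    push Not at hneg
    rw [sign_neg hneg] at this
    rcases this with h | h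
    · exact absurd h (by decide)
    · exact hi h.symm
  · rintro ⟨hm1, hm2⟩
    obtain ⟨b', i', rfl⟩ := hm1
    refine ⟨⟨b', i', rfl⟩, ?_⟩
    have hc : Corr P (fundWeight b' i') (fcw b' i') := ⟨b', i', rfl, (fcw_eq b' i').symm⟩
    have h := hm2 _ hc
    have hs : sgnVec P (fundWeight b' i') = cosgnVec P (fcw b' i') := by
      rw [cosgnVec_fcw b' i'.2, fw_eq]
    intro k
    rw [hs]
    unfold cosgnVec
    rcases lt_trichotomy (P.root' k (fcw b' i')) 0 with hk | hk | hk
    · right
      rw [sign_neg hk]
      by_contra hne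
      have : k ∈ F.parab := fun e => hne e.symm
      exact absurd (h k this) (not_le.mpr hk)
    · left; rw [hk, sign_zero]
    · right
      rw [sign_pos hk]
      have hn : P.reflectionPerm k k ∉ F.parab := by
        intro hmem
        have := h _ hmem
        rw [root'_neg] at this
        linarith
      have : F.sgn (P.reflectionPerm k k) = -1 := by
        by_contra hne; exact hn hne
      rw [Facet.sgn_neg] at this
      exact (st_eq_one_of_neg this).symm

theorem Facet.isParabolicSubset_parab (F : Facet P) : IsParabolicSubset P F.parab := by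
  let := Fintype.ofFinite ι
  obtain ⟨ξ, hξ⟩ := F.exists_sgnVec_eq
  have hmem : ∀ k, k ∈ F.parab ↔ 0 ≤ P.coroot' k ξ := by
    intro k
    have e : SignType.sign (P.coroot' k ξ) = F.sgn k := congrFun hξ k
    show F.sgn k ≠ -1 ↔ _
    rw [← e, Ne, sign_eq_neg_one_iff, not_lt]
  refine ⟨fun i j k hi hj hk => ?_, fun i => ?_⟩
  · rw [hmem] at hi hj ⊢
    have hrel := coroot'_add_rel ξ hk
    have pi := rootForm_root_pos P i
    have pj := rootForm_root_pos P j
    have pk := rootForm_root_pos P k
    by_contra hneg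
    push Not at hneg
    have : P.coroot' k ξ * P.RootForm (P.root k) (P.root k) < 0 := mul_neg_of_neg_of_pos hneg pk
    have h1 : 0 ≤ P.coroot' i ξ * P.RootForm (P.root i) (P.root i) := mul_nonneg hi pi.le
    have h2 : 0 ≤ P.coroot' j ξ * P.RootForm (P.root j) (P.root j) := mul_nonneg hj pj.le
    linarith
  · rw [hmem, hmem, coroot'_neg]
    rcases le_total 0 (P.coroot' i ξ) with h | h
    · exact Or.inl h
    · exact Or.inr (by linarith)

theorem Facet.ext_parab {F G : Facet P} (h : F.parab = G.parab) : F = G := by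
  apply Facet.ext
  funext k
  have hk : F.sgn k ≠ -1 ↔ G.sgn k ≠ -1 := by
    have : k ∈ F.parab ↔ k ∈ G.parab := by rw [h]
    exact this
  have hnk : -F.sgn k ≠ -1 ↔ -G.sgn k ≠ -1 := by
    have : P.reflectionPerm k k ∈ F.parab ↔ P.reflectionPerm k k ∈ G.parab := by rw [h]
    rw [← Facet.sgn_neg, ← Facet.sgn_neg]
    exact this
  revert hk hnk
  generalize F.sgn k = s
  generalize G.sgn k = t
  cases s <;> cases t <;> decide

theorem Facet.le_iff_parab (F G : Facet P) : F ≤ G ↔ F.parab ⊆ G.parab := by
  constructor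
  · intro h i hi
    show G.sgn i ≠ -1
    have hi' : F.sgn i ≠ -1 := hi
    rcases h i with h0 | h0
    · rw [h0]; decide
    · rw [h0]; exact hi'
  · intro h i
    have h1 : F.sgn i ≠ -1 → G.sgn i ≠ -1 := fun hi => h hi
    have h2 : -F.sgn i ≠ -1 → -G.sgn i ≠ -1 := by
      intro hi
      rw [← Facet.sgn_neg] at hi ⊢
      exact h hi
    revert h1 h2
    generalize F.sgn i = s
    generalize G.sgn i = t
    cases s <;> cases t <;> decide

/-- A parabolic set of roots contains the positive roots of some base. -/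
theorem exists_base_pos_subset {S : Set ι} (hS : IsParabolicSubset P S) :
    ∃ b : P.Base, ∀ k, b.IsPos k → k ∈ S := by
  obtain ⟨b₀⟩ := P.nonempty_base
  have : Nonempty P.Base := ⟨b₀⟩
  obtain ⟨b, hb⟩ := Finite.exists_max (fun b : P.Base => Set.ncard {k | b.IsPos k ∧ k ∈ S})
  have hsimple : ∀ i ∈ b.support, i ∈ S := by
    intro i hi
    by_contra hiS
    have hneg : P.reflectionPerm i i ∈ S := (hS.2 i).resolve_left hiS
    have hlt : Set.ncard {k | b.IsPos k ∧ k ∈ S} < Set.ncard {k | (sBase b i).IsPos k ∧ k ∈ S} := by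
      apply Set.ncard_lt_ncard _ (Set.toFinite _)
      refine ⟨?_, ?_⟩
      · rintro k ⟨hk1, hk2⟩
        refine ⟨?_, hk2⟩
        rw [isPos_sBase_simple b hi]
        exact Or.inl ⟨hk1, fun e => hiS (e ▸ hk2)⟩
      · intro hsub
        have hmem : P.reflectionPerm i i ∈ {k | (sBase b i).IsPos k ∧ k ∈ S} :=
          ⟨(isPos_sBase_simple b hi _).mpr (Or.inr rfl), hneg⟩
        exact (isPos_neg_iff b i).mp (hsub hmem).1 (Base.isPos_of_mem_support hi)
    exact absurd (hb (sBase b i)) (not_le.mpr hlt)
  refine ⟨b, fun k hk => ?_⟩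
  exact hk.induction_on_add (p := fun k => k ∈ S) hsimple
    (fun i j k hkij hi hj => hS.1 i j k hi (hsimple j hj) hkij)

/-- The simple roots of `b` whose negative is not in `S`. -/
noncomputable def Tset (S : Set ι) (b : P.Base) : Finset ι :=
  b.support.filter (fun i => P.reflectionPerm i i ∉ S)

theorem root_neg_add {i j k : ι} (h : P.root k = P.root i + P.root j) :
    P.root (P.reflectionPerm k k) = P.root (P.reflectionPerm i i) + P.root (P.reflectionPerm j j) := by
  rw [root_neg, root_neg, root_neg, h]; abel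

/-- Every parabolic set of roots is the parabolic set of a facet. -/
theorem exists_facet_parab_eq {S : Set ι} (hS : IsParabolicSubset P S) :
    ∃ F : Facet P, F.parab = S := by
  let := Fintype.ofFinite ι
  obtain ⟨b, hb⟩ := exists_base_pos_subset hS
  have hTsub : Tset S b ⊆ b.support := Finset.filter_subset _ _
  set ξ : M := ∑ j ∈ Tset S b, fw b j with hξdef
  have hξd : ξ ∈ closedChamber b := sum_fw_mem_closedChamber b _ hTsub
  have hv_simple : ∀ l ∈ b.support, P.coroot' l ξ = 0 ↔ P.reflectionPerm l l ∈ S := by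
    intro l hl
    rw [coroot'_sum_fw b _ hTsub hl]
    by_cases hlT : l ∈ Tset S b
    · rw [if_pos hlT]
      have : P.reflectionPerm l l ∉ S := (Finset.mem_filter.mp hlT).2
      simp [this]
    · rw [if_neg hlT]
      have : P.reflectionPerm l l ∈ S := by
        by_contra h; exact hlT (Finset.mem_filter.mpr ⟨hl, h⟩)
      simp [this]
  have hvnn : ∀ k, b.IsPos k → 0 ≤ P.coroot' k ξ := fun k hk => coroot'_nonneg_of_isPos hξd hk
  -- Lemma A
  have hA : ∀ l, b.IsPos l → (b.IsPos l ∧ (P.coroot' l ξ = 0 → P.reflectionPerm l l ∈ S)) := by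
    intro l hl
    refine hl.induction_on_add (p := fun l => b.IsPos l ∧
      (P.coroot' l ξ = 0 → P.reflectionPerm l l ∈ S)) ?_ ?_
    · intro l hl
      exact ⟨Base.isPos_of_mem_support hl, (hv_simple l hl).mp⟩
    · rintro i j k hk ⟨hipos, hi⟩ hj
      have hjpos := Base.isPos_of_mem_support hj
      refine ⟨hipos.add hjpos hk, fun h0 => ?_⟩
      have hrel := coroot'_add_rel ξ hk
      have pi := rootForm_root_pos P i
      have pj := rootForm_root_pos P j
      rw [h0, zero_mul] at hrel
      have h1 : 0 ≤ P.coroot' i ξ * P.RootForm (P.root i) (P.root i) :=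
        mul_nonneg (hvnn i hipos) pi.le
      have h2 : 0 ≤ P.coroot' j ξ * P.RootForm (P.root j) (P.root j) :=
        mul_nonneg (hvnn j hjpos) pj.le
      have e1 : P.coroot' i ξ * P.RootForm (P.root i) (P.root i) = 0 := by linarith
      have e2 : P.coroot' j ξ * P.RootForm (P.root j) (P.root j) = 0 := by linarith
      have v1 : P.coroot' i ξ = 0 := (mul_eq_zero.mp e1).resolve_right pi.ne'
      have v2 : P.coroot' j ξ = 0 := (mul_eq_zero.mp e2).resolve_right pj.ne'
      exact hS.1 _ _ _ (hi v1) ((hv_simple j hj).mp v2) (root_neg_add hk)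
  -- Lemma B
  have hB : ∀ l, b.IsPos l → (b.IsPos l ∧ (P.reflectionPerm l l ∈ S → P.coroot' l ξ = 0)) := by
    intro l hl
    refine hl.induction_on_add (p := fun l => b.IsPos l ∧
      (P.reflectionPerm l l ∈ S → P.coroot' l ξ = 0)) ?_ ?_
    · intro l hl
      exact ⟨Base.isPos_of_mem_support hl, (hv_simple l hl).mpr⟩
    · rintro i j k hk ⟨hipos, hi⟩ hj
      have hjpos := Base.isPos_of_mem_support hj
      refine ⟨hipos.add hjpos hk, fun hkS => ?_⟩
      have hiS : i ∈ S := hb i hipos
      have hjS : j ∈ S := hb j hjpos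
      have hnj : P.reflectionPerm j j ∈ S := by
        apply hS.1 _ _ _ hkS hiS
        rw [root_neg, root_neg, hk]; abel
      have hni : P.reflectionPerm i i ∈ S := by
        apply hS.1 _ _ _ hkS hjS
        rw [root_neg, root_neg, hk]; abel
      have hrel := coroot'_add_rel ξ hk
      rw [hi hni, (hv_simple j hj).mpr hnj, zero_mul, zero_mul, add_zero] at hrel
      exact (mul_eq_zero.mp hrel).resolve_right (rootForm_root_pos P k).ne'
  refine ⟨Facet.ofVec P ξ, ?_⟩
  ext k
  have hmem : k ∈ (Facet.ofVec P ξ).parab ↔ 0 ≤ P.coroot' k ξ := by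
    show SignType.sign (P.coroot' k ξ) ≠ -1 ↔ _
    rw [Ne, sign_eq_neg_one_iff, not_lt]
  rw [hmem]
  constructor
  · intro hk
    by_cases hpos : b.IsPos k
    · exact hb k hpos
    · have hpos' : b.IsPos (P.reflectionPerm k k) := (isPos_neg_iff b k).mpr hpos
      have h1 := hvnn _ hpos'
      rw [coroot'_neg] at h1
      have h0 : P.coroot' (P.reflectionPerm k k) ξ = 0 := by rw [coroot'_neg]; linarith
      have := (hA _ hpos').2 h0
      rwa [neg_neg_idx] at this
  · intro hk
    by_cases hpos : b.IsPos k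
    · exact hvnn k hpos
    · have hpos' : b.IsPos (P.reflectionPerm k k) := (isPos_neg_iff b k).mpr hpos
      have := (hB _ hpos').2 (by rwa [neg_neg_idx])
      rw [coroot'_neg] at this
      linarith

theorem existsUnique_facet_corners_eq {S : Set ι} (hS : IsParabolicSubset P S) :
    ∃ F : Facet P,
      (F.corners = {m : M | m ∈ fundWeights P ∧
          ∀ y : N, Corr P m y → ∀ i ∈ S, 0 ≤ P.root' i y} ∧ F.parab = S) ∧
      ∀ G : Facet P,
        G.corners = {m : M | m ∈ fundWeights P ∧
          ∀ y : N, Corr P m y → ∀ i ∈ S, 0 ≤ P.root' i y} → G = F := by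
  obtain ⟨F, hF⟩ := exists_facet_parab_eq hS
  have hc := Facet.corners_eq_parab F
  rw [hF] at hc
  exact ⟨F, ⟨hc, hF⟩, fun G hG => Facet.ext_corners (hG.trans hc.symm)⟩

theorem isParabolicSubset_iff :
    (∀ S : Set ι, IsParabolicSubset P S ↔ ∃! F : Facet P, F.parab = S) ∧
      ∀ F G : Facet P, F ≤ G ↔ F.parab ⊆ G.parab := by
  refine ⟨fun S => ⟨fun hS => ?_, ?_⟩, Facet.le_iff_parab⟩
  · obtain ⟨F, hF⟩ := exists_facet_parab_eq hS
    exact ⟨F, hF, fun G hG => Facet.ext_parab (hG.trans hF.symm)⟩
  · rintro ⟨F, rfl, _⟩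
    exact Facet.isParabolicSubset_parab F

end Groth.Agent.H27.Ch
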