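import Groth.Agent.H27.Ch.Basic

set_option autoImplicit false
set_option linter.unusedSectionVars false

/-!
# Positivity with respect to a base, reflected bases, induction on the distance between chambers
-/

namespace Groth.Agent.H27.Ch

open RootPairing RootCh Module

universe u v w x

variable {ι : Type u} {R : Type v} {M : Type w} {N : Type x}
  [Field R] [LinearOrder R] [IsStrictOrderedRing R]
  [AddCommGroup M] [Module R M] [AddCommGroup N] [Module R N]

section Closure

variable {A : Type*} [AddCommMonoid A]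

theorem nonneg_of_mem_closure (g : A →+ R) {s : Set A} (hs : ∀ a ∈ s, 0 ≤ g a) {m : A}
    (hm : m ∈ AddSubmonoid.closure s) : 0 ≤ g m := by
  induction hm using AddSubmonoid.closure_induction with
  | mem a ha => exact hs a ha
  | zero => simp
  | add a c _ _ ha hc => rw [map_add]; exact add_nonneg ha hc

theorem zero_or_pos_of_mem_closure (g : A →+ R) {s : Set A} (hs : ∀ a ∈ s, 0 < g a) {m : A}
    (hm : m ∈ AddSubmonoid.closure s) : m = 0 ∨ 0 < g m := by
  induction hm using AddSubmonoid.closure_induction with
  | mem a ha => exact Or.inr (hs a ha)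
  | zero => exact Or.inl rfl
  | add a c _ _ ha hc =>
    rcases ha with rfl | ha
    · rcases hc with rfl | hc
      · left; simp
      · right; simpa using hc
    · rcases hc with rfl | hc
      · right; simpa using ha
      · right; rw [map_add]; exact add_pos ha hc

theorem pos_of_mem_closure (g : A →+ R) {s : Set A} (hs : ∀ a ∈ s, 0 < g a) {m : A}
    (hm : m ∈ AddSubmonoid.closure s) (hne : m ≠ 0) : 0 < g m :=
  (zero_or_pos_of_mem_closure g hs hm).resolve_left hne

theorem zero_imp_of_mem_closure (g h : A →+ R) {s : Set A} (hg : ∀ a ∈ s, 0 ≤ g a)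
    (hh : ∀ a ∈ s, 0 ≤ h a) (himp : ∀ a ∈ s, h a = 0 → g a = 0) {m : A}
    (hm : m ∈ AddSubmonoid.closure s) : h m = 0 → g m = 0 := by
  have key : 0 ≤ g m ∧ 0 ≤ h m ∧ (h m = 0 → g m = 0) := by
    induction hm using AddSubmonoid.closure_induction with
    | mem a ha => exact ⟨hg a ha, hh a ha, himp a ha⟩
    | zero => simp
    | add a c _ _ ha hc =>
      obtain ⟨ha1, ha2, ha3⟩ := ha
      obtain ⟨hc1, hc2, hc3⟩ := hc
      refine ⟨by rw [map_add]; exact add_nonneg ha1 hc1,
        by rw [map_add]; exact add_nonneg ha2 hc2, fun h0 => ?_⟩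
      rw [map_add] at h0
      have e1 : h a = 0 := by linarith
      have e2 : h c = 0 := by linarith
      rw [map_add, ha3 e1, hc3 e2, add_zero]
  exact key.2.2

end Closure

section Base

variable {P : RootPairing ι R M N}

theorem Base.ext_support {b b' : P.Base} (h : b.support = b'.support) : b = b' := by
  cases b; cases b'
  simp only at h
  subst h
  rfl

variable [Finite ι] [P.IsRootSystem] [P.IsCrystallographic] [P.IsReduced]

theorem isPos_neg_iff (b : P.Base) (k : ι) :
    b.IsPos (P.reflectionPerm k k) ↔ ¬ b.IsPos k :=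
  Base.IsPos.neg_iff_not b k

theorem mem_closure_exists_nat (b : P.Base) {m : M}
    (hm : m ∈ AddSubmonoid.closure (P.root '' (b.support : Set ι))) :
    ∃ f : ι → ℕ, m = ∑ j ∈ b.support, f j • P.root j := by
  classical
  induction hm using AddSubmonoid.closure_induction with
  | mem a ha =>
    obtain ⟨j, hj, rfl⟩ := ha
    refine ⟨Pi.single j 1, ?_⟩
    rw [Finset.sum_eq_single_of_mem j hj]
    · simp
    · intro l _ hl
      simp [hl]
  | zero => exact ⟨0, by simp⟩
  | add a c _ _ ha hc =>
    obtain ⟨f, hf⟩ := ha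
    obtain ⟨g, hg⟩ := hc
    exact ⟨f + g, by simp [hf, hg, add_smul, Finset.sum_add_distrib]⟩

theorem isPos_of_mem_closure (b : P.Base) {k : ι}
    (hk : P.root k ∈ AddSubmonoid.closure (P.root '' (b.support : Set ι))) : b.IsPos k := by
  obtain ⟨f, hf⟩ := mem_closure_exists_nat b hk
  rw [Base.isPos_iff']
  have hf' : P.root k = ∑ j ∈ b.support, (fun j => (f j : ℤ)) j • P.root j := by
    rw [hf]
    exact Finset.sum_congr rfl fun j _ => (natCast_zsmul _ _).symm
  rw [Base.height_eq_sum hf']
  exact Finset.sum_nonneg fun j _ => Int.natCast_nonneg _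

theorem isPos_iff_mem_closure (b : P.Base) (k : ι) :
    b.IsPos k ↔ P.root k ∈ AddSubmonoid.closure (P.root '' (b.support : Set ι)) := by
  refine ⟨fun hk => ?_, isPos_of_mem_closure b⟩
  rcases b.root_mem_or_neg_mem k with h | h
  · exact h
  · exfalso
    rw [← root_neg] at h
    exact (isPos_neg_iff b k).mp (isPos_of_mem_closure b h) hk

/-- The sum of the fundamental weights. -/
noncomputable def rho (b : P.Base) : M := ∑ i : b.support, fundWeight b i

open scoped Classical in
theorem coroot'_fundWeight (b : P.Base) (i j : b.support) :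
    P.coroot' j (fundWeight b i) = if j = i then 1 else 0 := by
  split_ifs with h
  · subst h; exact coroot'_fundWeight_self b j
  · exact coroot'_fundWeight_of_ne b i j h

theorem coroot'_rho (b : P.Base) {i : ι} (hi : i ∈ b.support) : P.coroot' i (rho b) = 1 := by
  classical
  rw [rho, map_sum]
  rw [Finset.sum_eq_single (⟨i, hi⟩ : b.support)]
  · exact coroot'_fundWeight_self b ⟨i, hi⟩
  · intro j _ hj
    exact coroot'_fundWeight_of_ne b j ⟨i, hi⟩ (Ne.symm hj)
  · intro h; exact absurd (Finset.mem_univ _) h

theorem coroot_mem_closure_of_isPos (b : P.Base) {k : ι} (hk : b.IsPos k) :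
    P.coroot k ∈ AddSubmonoid.closure (P.coroot '' (b.support : Set ι)) := by
  have := Fintype.ofFinite ι
  rcases b.coroot_mem_or_neg_mem k with h | h
  · exact h
  · exfalso
    have hne : - P.coroot k ≠ 0 := by
      rw [neg_ne_zero]; exact P.flip.ne_zero k
    have h1 : 0 < (P.toLinearMap (rho b)).toAddMonoidHom (- P.coroot k) := by
      apply pos_of_mem_closure _ _ h hne
      rintro _ ⟨i, hi, rfl⟩
      show 0 < P.coroot' i (rho b)
      rw [coroot'_rho b hi]; exact one_pos
    have h1' : P.coroot' k (rho b) < 0 := by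
      have : (P.toLinearMap (rho b)).toAddMonoidHom (- P.coroot k) = - P.coroot' k (rho b) := by
        show P.toLinearMap (rho b) (- P.coroot k) = - P.toLinearMap (rho b) (P.coroot k)
        rw [map_neg]
      rw [this] at h1; linarith
    have h2 : 0 ≤ (P.RootForm (rho b)).toAddMonoidHom (P.root k) := by
      apply nonneg_of_mem_closure _ _ ((isPos_iff_mem_closure b k).mp hk)
      rintro _ ⟨i, hi, rfl⟩
      show 0 ≤ P.RootForm (rho b) (P.root i)
      have := two_mul_rootForm_root P (rho b) i
      rw [coroot'_rho b hi, one_mul] at this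
      have hp := rootForm_root_pos P i
      linarith
    have h2' : 0 ≤ P.RootForm (rho b) (P.root k) := h2
    have h3 := coroot'_eq_rootForm P (rho b) k
    have hp := rootForm_root_pos P k
    have : 0 ≤ P.coroot' k (rho b) := by
      rw [h3]; positivity
    linarith

theorem isPos_flip (b : P.Base) (k : ι) : b.flip.IsPos k ↔ b.IsPos k := by
  constructor
  · intro h
    have := coroot_mem_closure_of_isPos (P := P.flip) b.flip h
    exact isPos_of_mem_closure b this
  · intro h
    exact isPos_of_mem_closure (P := P.flip) b.flip (coroot_mem_closure_of_isPos b h)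

theorem coroot'_nonneg_of_isPos {b : P.Base} {ξ : M} (hξ : ξ ∈ closedChamber b) {k : ι}
    (hk : b.IsPos k) : 0 ≤ P.coroot' k ξ := by
  have : 0 ≤ (P.toLinearMap ξ).toAddMonoidHom (P.coroot k) := by
    apply nonneg_of_mem_closure _ _ (coroot_mem_closure_of_isPos b hk)
    rintro _ ⟨i, hi, rfl⟩
    exact hξ i hi
  exact this

theorem coroot'_pos_of_isPos {b : P.Base} {ξ : M} (hξ : ξ ∈ openChamber b) {k : ι}
    (hk : b.IsPos k) : 0 < P.coroot' k ξ := by
  have : 0 < (P.toLinearMap ξ).toAddMonoidHom (P.coroot k) := by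
    apply pos_of_mem_closure _ _ (coroot_mem_closure_of_isPos b hk) (P.flip.ne_zero k)
    rintro _ ⟨i, hi, rfl⟩
    exact hξ i hi
  exact this

theorem root'_nonneg_of_isPos {b : P.Base} {y : N} (hy : ∀ i ∈ b.support, 0 ≤ P.root' i y) {k : ι}
    (hk : b.IsPos k) : 0 ≤ P.root' k y := by
  have : 0 ≤ (P.toLinearMap.flip y).toAddMonoidHom (P.root k) := by
    apply nonneg_of_mem_closure _ _ ((isPos_iff_mem_closure b k).mp hk)
    rintro _ ⟨i, hi, rfl⟩
    exact hy i hi
  exact this

theorem root'_pos_of_isPos {b : P.Base} {y : N} (hy : ∀ i ∈ b.support, 0 < P.root' i y) {k : ι}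
    (hk : b.IsPos k) : 0 < P.root' k y := by
  have : 0 < (P.toLinearMap.flip y).toAddMonoidHom (P.root k) := by
    apply pos_of_mem_closure _ _ ((isPos_iff_mem_closure b k).mp hk) (P.ne_zero k)
    rintro _ ⟨i, hi, rfl⟩
    exact hy i hi
  exact this

theorem rho_mem_openChamber (b : P.Base) : rho b ∈ openChamber b := by
  intro i hi
  rw [coroot'_rho b hi]; exact one_pos

theorem rho_regular (b : P.Base) (k : ι) : P.coroot' k (rho b) ≠ 0 := by
  rcases Base.IsPos.or_neg b k with h | h
  · exact (coroot'_pos_of_isPos (rho_mem_openChamber b) h).ne'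
  · have h' : b.IsPos (P.reflectionPerm k k) := h
    have := coroot'_pos_of_isPos (rho_mem_openChamber b) h'
    rw [coroot'_neg] at this
    intro h0; rw [h0] at this; simp at this

end Base

end Groth.Agent.H27.Ch
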