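import Groth.Agent.H27.Ch.Pos

set_option autoImplicit false
set_option linter.unusedSectionVars false

/-!
# Reflected bases and induction on the distance between chambers
-/

namespace Groth.Agent.H27.Ch

open RootPairing RootCh Module

universe u v w x

variable {ι : Type u} {R : Type v} {M : Type w} {N : Type x}
  [Field R] [LinearOrder R] [IsStrictOrderedRing R]
  [AddCommGroup M] [Module R M] [AddCommGroup N] [Module R N]
  {P : RootPairing ι R M N} [Finite ι] [P.IsRootSystem] [P.IsCrystallographic] [P.IsReduced]

theorem root_image_reflect (b : P.Base) (i : ι) :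
    P.root '' ((P.reflectionPerm i) '' (b.support : Set ι)) =
      (P.reflection i) '' (P.root '' (b.support : Set ι)) := by
  rw [Set.image_image, Set.image_image]
  apply Set.image_congr
  intro j _
  exact P.root_reflectionPerm i j

theorem reflection_root_perm (i k : ι) :
    P.reflection i (P.root (P.reflectionPerm i k)) = P.root k := by
  rw [← P.root_reflectionPerm, P.reflectionPerm_self]

theorem mem_closure_reflect_iff (b : P.Base) (i : ι) (m : M) :
    m ∈ AddSubmonoid.closure (P.root '' ((P.reflectionPerm i) '' (b.support : Set ι))) ↔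
      P.reflection i m ∈ AddSubmonoid.closure (P.root '' (b.support : Set ι)) := by
  rw [root_image_reflect, ← AddMonoidHom.map_mclosure, AddSubmonoid.mem_map]
  constructor
  · rintro ⟨y, hy, rfl⟩
    rw [P.reflection_same]; exact hy
  · intro h
    exact ⟨P.reflection i m, h, P.reflection_same i m⟩

/-- The base obtained by applying the reflection in the root `i` to the base `b`. -/
noncomputable def sBase (b : P.Base) (i : ι) : P.Base :=
  Base.mk' P ((P.reflectionPerm i) '' (b.support : Set ι))
    (by
      apply LinearIndepOn.image_of_comp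
      have h := b.linearIndepOn_root
      have h2 : LinearIndependent R ((P.reflection i).toLinearMap ∘ fun x : b.support => P.root x) :=
        h.map' _ (LinearEquiv.ker _)
      have e : ((P.reflection i).toLinearMap ∘ fun x : b.support => P.root x) =
          fun x : b.support => (P.root ∘ (P.reflectionPerm i)) x := by
        funext x
        simp only [Function.comp_apply, LinearEquiv.coe_coe]
        exact (P.root_reflectionPerm i x).symm
      rw [e] at h2
      exact h2)
    (by
      intro k
      rw [mem_closure_reflect_iff, mem_closure_reflect_iff, map_neg, ← P.root_reflectionPerm]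
      exact b.root_mem_or_neg_mem _)

theorem mem_sBase_support (b : P.Base) (i j : ι) :
    j ∈ (sBase b i).support ↔ P.reflectionPerm i j ∈ b.support := by
  simp only [sBase, Base.mk', Set.Finite.mem_toFinset, Set.mem_image, Finset.mem_coe]
  constructor
  · rintro ⟨l, hl, rfl⟩
    rw [P.reflectionPerm_self]; exact hl
  · intro h
    exact ⟨_, h, P.reflectionPerm_self i j⟩

theorem perm_mem_sBase_support (b : P.Base) (i : ι) {j : ι} (hj : j ∈ b.support) :
    P.reflectionPerm i j ∈ (sBase b i).support := by
  rw [mem_sBase_support, P.reflectionPerm_self]; exact hj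

theorem sBase_sBase (b : P.Base) (i : ι) : sBase (sBase b i) i = b := by
  apply Base.ext_support
  ext j
  rw [mem_sBase_support, mem_sBase_support, P.reflectionPerm_self]

theorem sBase_neg (b : P.Base) (i : ι) : sBase b (P.reflectionPerm i i) = sBase b i := by
  apply Base.ext_support
  ext j
  rw [mem_sBase_support, mem_sBase_support, reflectionPerm_neg]

theorem sBase_flip (b : P.Base) (i : ι) : (sBase b i).flip = sBase (P := P.flip) b.flip i := by
  apply Base.ext_support
  ext j
  rw [mem_sBase_support]
  show j ∈ (sBase b i).support ↔ _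
  rw [mem_sBase_support]
  rfl

theorem isPos_sBase (b : P.Base) (i k : ι) :
    (sBase b i).IsPos k ↔ b.IsPos (P.reflectionPerm i k) := by
  rw [isPos_iff_mem_closure, isPos_iff_mem_closure]
  have : (↑(sBase b i).support : Set ι) = (P.reflectionPerm i) '' (b.support : Set ι) := by
    ext j
    rw [Finset.mem_coe, mem_sBase_support]
    constructor
    · intro h; exact ⟨_, h, P.reflectionPerm_self i j⟩
    · rintro ⟨l, hl, rfl⟩; rw [P.reflectionPerm_self]; exact hl
  rw [this, mem_closure_reflect_iff, ← P.root_reflectionPerm]

theorem idx_ne_neg (i : ι) : P.reflectionPerm i i ≠ i := by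
  intro h
  have := root_neg P i
  rw [h] at this
  have h2 : (2 : R) • P.root i = 0 := by
    rw [two_smul]; nth_rewrite 1 [this]; simp
  rcases smul_eq_zero.mp h2 with h3 | h3
  · norm_num at h3
  · exact P.ne_zero i h3

theorem isPos_sBase_simple (b : P.Base) {i : ι} (hi : i ∈ b.support) (k : ι) :
    (sBase b i).IsPos k ↔ (b.IsPos k ∧ k ≠ i) ∨ k = P.reflectionPerm i i := by
  rw [isPos_sBase]
  have hipos : b.IsPos i := Base.isPos_of_mem_support hi
  by_cases h1 : k = i
  · subst h1
    constructor
    · intro h; exact absurd hipos ((isPos_neg_iff b k).mp h)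
    · rintro (⟨_, h⟩ | h)
      · exact absurd rfl h
      · exact absurd h.symm (idx_ne_neg k)
  by_cases h2 : k = P.reflectionPerm i i
  · subst h2
    rw [P.reflectionPerm_self]
    exact ⟨fun _ => Or.inr rfl, fun _ => hipos⟩
  constructor
  · intro h
    left
    refine ⟨?_, h1⟩
    have hne : P.reflectionPerm i k ≠ i := by
      intro h3; apply h2
      have := congrArg (P.reflectionPerm i) h3
      rwa [P.reflectionPerm_self] at this
    have := h.reflectionPerm hi hne
    rwa [P.reflectionPerm_self] at this
  · rintro (⟨h, _⟩ | h)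
    · exact h.reflectionPerm hi h1
    · exact absurd h h2

/-- The set of roots positive for `b` and not positive for `b'`. -/
def Nset (b b' : P.Base) : Set ι := {k | b.IsPos k ∧ ¬ b'.IsPos k}

theorem support_subset_of_isPos_iff {b b' : P.Base} (h : ∀ k, b.IsPos k ↔ b'.IsPos k) :
    b.support ⊆ b'.support := by
  intro i hi
  by_contra hi'
  have hpos' : b'.IsPos i := (h i).mp (Base.isPos_of_mem_support hi)
  obtain ⟨j, hj, hj'⟩ := hpos'.exists_mem_support_pos_pairingIn
  rw [P.zero_lt_pairingIn_iff'] at hj'
  have hij : i ≠ j := fun e => hi' (e ▸ hj)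
  obtain ⟨k, hk⟩ := P.root_sub_root_mem_of_pairingIn_pos hj' hij
  have hkpos' : b'.IsPos k := hpos'.sub hj hk
  have hkpos : b.IsPos k := (h k).mpr hkpos'
  have hjpos : b.IsPos j := (h j).mpr (Base.isPos_of_mem_support hj)
  have hsum : P.root i = P.root k + P.root j := by rw [hk]; abel
  have hh := b.height_add hsum
  rw [Base.height_one_of_mem_support hi] at hh
  rw [Base.isPos_iff] at hkpos hjpos
  omega

theorem eq_of_isPos_imp {b b' : P.Base} (h : ∀ k, b.IsPos k → b'.IsPos k) : b = b' := by
  have h' : ∀ k, b.IsPos k ↔ b'.IsPos k := by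
    intro k
    refine ⟨h k, fun hk => ?_⟩
    by_contra hn
    have h1 : b.IsPos (P.reflectionPerm k k) := (isPos_neg_iff b k).mpr hn
    exact (isPos_neg_iff b' k).mp (h _ h1) hk
  apply Base.ext_support
  exact Finset.Subset.antisymm (support_subset_of_isPos_iff h')
    (support_subset_of_isPos_iff fun k => (h' k).symm)

theorem exists_simple_not_isPos {b b' : P.Base} (hne : b' ≠ b) :
    ∃ i ∈ b'.support, ¬ b.IsPos i := by
  by_contra hcon
  push Not at hcon
  apply hne
  apply eq_of_isPos_imp
  intro k hk
  rw [isPos_iff_mem_closure] at hk ⊢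
  have hle : AddSubmonoid.closure (P.root '' (b'.support : Set ι)) ≤
      AddSubmonoid.closure (P.root '' (b.support : Set ι)) := by
    rw [AddSubmonoid.closure_le]
    rintro _ ⟨i, hi, rfl⟩
    exact (isPos_iff_mem_closure b i).mp (hcon i hi)
  exact hle hk

theorem Nset_sBase_lt (b b' : P.Base) {i : ι} (hi : i ∈ b'.support) (hneg : ¬ b.IsPos i) :
    (Nset b (sBase b' i)).ncard < (Nset b b').ncard := by
  apply Set.ncard_lt_ncard _ (Set.toFinite _)
  refine ⟨?_, ?_⟩
  · intro k hk
    refine ⟨hk.1, fun hk' => hk.2 ?_⟩
    rw [isPos_sBase_simple b' hi]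
    left
    refine ⟨hk', ?_⟩
    rintro rfl
    exact hneg hk.1
  · intro hsub
    have hmem : P.reflectionPerm i i ∈ Nset b b' :=
      ⟨(isPos_neg_iff b i).mpr hneg, fun h => (isPos_neg_iff b' i).mp h
        (Base.isPos_of_mem_support hi)⟩
    have := hsub hmem
    apply this.2
    rw [isPos_sBase_simple b' hi]
    exact Or.inr rfl

/-- Induction on bases: every base is reached from `b` by successively reflecting in simple roots
that are positive for `b`. -/
theorem base_induction (b : P.Base) {p : P.Base → Prop} (h0 : p b)
    (hstep : ∀ (c : P.Base) (j : ι), j ∈ c.support → b.IsPos j → p c → p (sBase c j))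
    (b' : P.Base) : p b' := by
  induction hn : (Nset b b').ncard using Nat.strong_induction_on generalizing b' with
  | _ n ih =>
    by_cases hbb : b' = b
    · rw [hbb]; exact h0
    obtain ⟨i, hi, hneg⟩ := exists_simple_not_isPos hbb
    have hlt := Nset_sBase_lt b b' hi hneg
    have hc : p (sBase b' i) := ih _ (hn ▸ hlt) _ rfl
    have hj : P.reflectionPerm i i ∈ (sBase b' i).support := perm_mem_sBase_support b' i hi
    have := hstep (sBase b' i) (P.reflectionPerm i i) hj ((isPos_neg_iff b i).mpr hneg) hc
    rwa [sBase_neg, sBase_sBase] at this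

end Groth.Agent.H27.Ch
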