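import Groth.Agent.H27.Ch.CCS

set_option autoImplicit false
set_option linter.unusedSectionVars false

/-!
# Semi-stability and degrees of facets
-/

namespace Groth.Agent.H27.Ch

open RootPairing RootCh Module
open scoped Classical

universe u v w x

variable {ι : Type u} {R : Type v} {M : Type w} {N : Type x}
  [Field R] [LinearOrder R] [IsStrictOrderedRing R]
  [AddCommGroup M] [Module R M] [AddCommGroup N] [Module R N]
  {P : RootPairing ι R M N} [Finite ι] [P.IsRootSystem] [P.IsCrystallographic] [P.IsReduced]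

theorem origin_sgn (i : ι) : (Facet.origin P).sgn i = 0 := by
  show SignType.sign (P.coroot' i 0) = 0
  rw [map_zero, sign_zero]

theorem origin_cham : (Facet.origin P).cham = Set.univ := by
  ext b
  simp only [Set.mem_univ, iff_true]
  intro ξ hξ i _
  have e : SignType.sign (P.coroot' i ξ) = (Facet.origin P).sgn i := congrFun hξ i
  rw [origin_sgn] at e
  exact (sign_eq_zero_iff.mp e).ge

theorem origin_corners : (Facet.origin P).corners = ∅ := by
  obtain ⟨b, hb⟩ := Facet.exists_cham (Facet.origin P)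
  rw [Facet.corners_eq _ hb]
  ext w
  simp only [Set.mem_image, Set.mem_ofPred_eq, Set.mem_empty_iff_false, iff_false]
  rintro ⟨i, ⟨_, hne⟩, _⟩
  exact hne (origin_sgn i)

theorem mem_origin_corners' (m : M) :
    m ∈ (Facet.origin P).corners' ↔ ∃ b : P.Base, m ∈ baseCorners b := by
  simp only [Facet.corners', origin_cham, Set.mem_iUnion, Set.mem_univ, exists_true_left]

theorem dualSolid_origin (d : P.Base → N) : dualSolid d (Facet.origin P) = solid d := by
  unfold dualSolid solid
  rw [origin_cham, Set.image_univ]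

variable {d : P.Base → N}

theorem IsCCS.mem_solid_iff (hd : IsCCS d) (x : N) :
    x ∈ solid d ↔ ∀ b : P.Base, ∀ m ∈ baseCorners b,
      P.toLinearMap m (d b) ≤ P.toLinearMap m x := by
  rw [← dualSolid_origin, IsCCS.dualSolid_eq hd, origin_corners]
  simp only [Set.mem_inter_iff, Set.mem_iInter, Set.mem_empty_iff_false, false_imp_iff,
    implies_true, true_and, mem_origin_corners']
  constructor
  · intro h b m hm
    exact h m ⟨b, hm⟩ b hm
  · rintro h m ⟨_, _⟩ b hm
    exact h b m hm

theorem IsCCS.forall_corner_nonpos_iff (hd : IsCCS d) :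
    (∀ (b : P.Base), ∀ m ∈ baseCorners b, P.toLinearMap m (d b) ≤ 0) ↔ IsSemistable d := by
  unfold IsSemistable
  rw [IsCCS.mem_solid_iff hd]
  simp only [map_zero]

/-- The sum of the roots of the parabolic set of a facet. -/
noncomputable def sigma (F : Facet P) : M := ∑ k ∈ (Set.toFinite F.parab).toFinset, P.root k

theorem sigma_mem_carrier (F : Facet P) : sigma F ∈ F.carrier := Facet.sum_parab_mem_carrier F

theorem deg_eq (d : P.Base → N) (F : Facet P) (b : P.Base) :
    F.deg d b = P.toLinearMap (sigma F) (d b) := by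
  unfold Facet.deg sigma
  rw [map_sum, LinearMap.sum_apply]

theorem coroot'_sigma_pos (F : Facet P) {b : P.Base} (hb : b ∈ F.cham) {j : ι}
    (hj : j ∈ Jset F b) : 0 < P.coroot' j (sigma F) :=
  ((Facet.mem_carrier_iff F hb _).mp (sigma_mem_carrier F) j (mem_Jset.mp hj).1).2
    (mem_Jset.mp hj).2

theorem pairing_eq_sum_Jset (F : Facet P) {b : P.Base} (hb : b ∈ F.cham) {ξ : M}
    (hξ : ξ ∈ F.carrier) (y : N) :
    P.toLinearMap ξ y = ∑ j ∈ Jset F b, P.coroot' j ξ * P.toLinearMap (fw b j) y := by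
  conv_lhs => rw [← Facet.sum_Jset F hb hξ]
  simp only [map_sum, map_smul, LinearMap.sum_apply, LinearMap.smul_apply, smul_eq_mul]

theorem deg_eq_sum (d : P.Base → N) (F : Facet P) {b : P.Base} (hb : b ∈ F.cham) :
    F.deg d b = ∑ j ∈ Jset F b, P.coroot' j (sigma F) * P.toLinearMap (fw b j) (d b) := by
  rw [deg_eq, pairing_eq_sum_Jset F hb (sigma_mem_carrier F)]

/-- The facet spanned by one fundamental weight. -/
noncomputable def rayFacet (b : P.Base) (i : ι) : Facet P :=
  Facet.ofVec P (∑ j ∈ ({i} : Finset ι), fw b j)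

theorem rayFacet_cham (b : P.Base) {i : ι} (hi : i ∈ b.support) : b ∈ (rayFacet b i).cham :=
  cham_ofVec (sum_fw_mem_closedChamber b _ (Finset.singleton_subset_iff.mpr hi))

theorem rayFacet_Jset (b : P.Base) {i : ι} (hi : i ∈ b.support) : Jset (rayFacet b i) b = {i} := by
  ext l
  rw [mem_Jset, Finset.mem_singleton]
  constructor
  · rintro ⟨hl, hne⟩
    have := (sgn_ofVec_sum_fw b _ (Finset.singleton_subset_iff.mpr hi) hl).mp hne
    exact Finset.mem_singleton.mp this
  · rintro rfl
    exact ⟨hi, (sgn_ofVec_sum_fw b _ (Finset.singleton_subset_iff.mpr hi) hi).mpr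
      (Finset.mem_singleton_self l)⟩

theorem rayFacet_corners (b : P.Base) {i : ι} (hi : i ∈ b.support) :
    (rayFacet b i).corners = {fw b i} := by
  unfold rayFacet
  rw [corners_ofVec_sum b _ (Finset.singleton_subset_iff.mpr hi), Finset.coe_singleton,
    Set.image_singleton]

theorem rayFacet_dim (b : P.Base) {i : ι} (hi : i ∈ b.support) : (rayFacet b i).dim = 1 := by
  unfold Facet.dim
  rw [Facet.span_carrier_eq, rayFacet_corners b hi]
  exact finrank_span_singleton (fw_ne_zero b hi)

theorem IsCCS.forall_deg_nonpos_of_semistable (hd : IsCCS d) (hs : IsSemistable d)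
    (F : Facet P) (b : P.Base) (hb : b ∈ F.cham) : F.deg d b ≤ 0 := by
  rw [deg_eq_sum d F hb]
  apply Finset.sum_nonpos
  intro j hj
  have h1 := (IsCCS.forall_corner_nonpos_iff hd).mpr hs b _
    (fw_mem_baseCorners b (mem_Jset.mp hj).1)
  exact mul_nonpos_of_nonneg_of_nonpos (coroot'_sigma_pos F hb hj).le h1

theorem IsCCS.semistable_of_forall_ray_deg_nonpos (hd : IsCCS d)
    (h : ∀ (F : Facet P) (b : P.Base), F.dim = 1 → b ∈ F.cham → F.deg d b ≤ 0) :
    IsSemistable d := by
  rw [← IsCCS.forall_corner_nonpos_iff hd]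
  intro b m hm
  rw [baseCorners_eq] at hm
  obtain ⟨i, hi, rfl⟩ := hm
  have hdeg := h (rayFacet b i) b (rayFacet_dim b hi) (rayFacet_cham b hi)
  rw [deg_eq_sum d _ (rayFacet_cham b hi), rayFacet_Jset b hi, Finset.sum_singleton] at hdeg
  have hpos : 0 < P.coroot' i (sigma (rayFacet b i)) :=
    coroot'_sigma_pos _ (rayFacet_cham b hi) (by rw [rayFacet_Jset b hi]; exact Finset.mem_singleton_self i)
  by_contra hcon
  push Not at hcon
  have := mul_pos hpos hcon
  linarith

theorem IsCCS.forall_deg_nonpos_iff (hd : IsCCS d) :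
    (∀ (F : Facet P) (b : P.Base), b ∈ F.cham → F.deg d b ≤ 0) ↔ IsSemistable d :=
  ⟨fun h => IsCCS.semistable_of_forall_ray_deg_nonpos hd fun F b _ hb => h F b hb,
    fun hs F b hb => IsCCS.forall_deg_nonpos_of_semistable hd hs F b hb⟩

theorem IsCCS.forall_ray_deg_nonpos_iff (hd : IsCCS d) :
    (∀ (F : Facet P) (b : P.Base), F.dim = 1 → b ∈ F.cham → F.deg d b ≤ 0) ↔
      IsSemistable d :=
  ⟨IsCCS.semistable_of_forall_ray_deg_nonpos hd,
    fun hs F b _ hb => IsCCS.forall_deg_nonpos_of_semistable hd hs F b hb⟩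

theorem IsCCS.pairing_eq_of_mem_span (hd : IsCCS d) (F : Facet P) {b b' : P.Base}
    (hb : b ∈ F.cham) (hb' : b' ∈ F.cham) {σ : M} (hσ : σ ∈ Submodule.span R F.corners) :
    P.toLinearMap σ (d b) = P.toLinearMap σ (d b') := by
  induction hσ using Submodule.span_induction with
  | mem m hm =>
    exact hd.corner_eq b b' m (Facet.corners_subset_baseCorners F hb hm)
      (Facet.corners_subset_baseCorners F hb' hm)
  | zero => simp
  | add x y _ _ hx hy => rw [map_add, LinearMap.add_apply, LinearMap.add_apply, hx, hy]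
  | smul a x _ hx => rw [map_smul, LinearMap.smul_apply, LinearMap.smul_apply, hx]

theorem IsCCS.deg_eq_deg (hd : IsCCS d) (F : Facet P) {b b' : P.Base}
    (hb : b ∈ F.cham) (hb' : b' ∈ F.cham) : F.deg d b = F.deg d b' := by
  rw [deg_eq, deg_eq]
  exact IsCCS.pairing_eq_of_mem_span hd F hb hb'
    (Facet.carrier_subset_span_corners F (sigma_mem_carrier F))

/-- The sum of the roots of the elementary set of a corner. -/
noncomputable def sigmaPsi (F : Facet P) (m : M) : M :=
  ∑ k ∈ (Set.toFinite (F.Psi m)).toFinset, P.root k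

theorem numInv_eq (d : P.Base → N) (F : Facet P) (m : M) (b : P.Base) :
    F.numInv d m b = P.toLinearMap (sigmaPsi F m) (d b) := by
  unfold Facet.numInv sigmaPsi
  rw [map_sum, LinearMap.sum_apply]

theorem IsCCS.numInv_eq_numInv (hd : IsCCS d) (F : Facet P) (m : M) (hm : m ∈ F.corners)
    {b b' : P.Base} (hb : b ∈ F.cham) (hb' : b' ∈ F.cham) :
    F.numInv d m b = F.numInv d m b' := by
  rw [numInv_eq, numInv_eq]
  exact IsCCS.pairing_eq_of_mem_span hd F hb hb' (Facet.sum_psi_mem_span F m hm)

end Groth.Agent.H27.Ch
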