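import Groth.Agent.H27.Ch.Solid

set_option autoImplicit false
set_option linter.unusedSectionVars false

/-!
# Special facets
-/

namespace Groth.Agent.H27.Ch

open RootPairing RootCh Module
open scoped Classical

universe u v w x

variable {ι : Type u} {R : Type v} {M : Type w} {N : Type x}
  [Field R] [LinearOrder R] [IsStrictOrderedRing R]
  [AddCommGroup M] [Module R M] [AddCommGroup N] [Module R N]
  {P : RootPairing ι R M N} [Finite ι] [P.IsRootSystem] [P.IsCrystallographic] [P.IsReduced]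

theorem Facet.mem_dualCarrier_iff (F : Facet P) {b : P.Base} (hb : b ∈ F.cham) (y : N) :
    y ∈ F.dualCarrier ↔ ∀ i ∈ b.support,
      (F.sgn i = 0 → P.root' i y = 0) ∧ (F.sgn i ≠ 0 → 0 < P.root' i y) :=
  Facet.mem_carrier_iff (dualFacet F) (flip_mem_cham_dualFacet F hb) y

theorem Facet.root'_eq_zero_of_mem_span (F : Facet P) {y : N}
    (hy : y ∈ Submodule.span R F.dualCarrier) {k : ι} (hk : F.sgn k = 0) : P.root' k y = 0 := by
  have hle : Submodule.span R F.dualCarrier ≤ LinearMap.ker (P.root' k) := by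
    apply Submodule.span_le.mpr
    intro x hx
    have e : SignType.sign (P.root' k x) = F.sgn k := congrFun hx k
    rw [hk] at e
    exact LinearMap.mem_ker.mpr (sign_eq_zero_iff.mp e)
  exact LinearMap.mem_ker.mp (hle hy)

theorem Facet.mem_span_dualCarrier_iff (F : Facet P) {b : P.Base} (hb : b ∈ F.cham) (y : N) :
    y ∈ Submodule.span R F.dualCarrier ↔ ∀ i ∈ b.support, F.sgn i = 0 → P.root' i y = 0 := by
  constructor
  · intro hy i _ h0
    exact Facet.root'_eq_zero_of_mem_span F hy h0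
  · intro h
    rw [← dualFacet_carrier, Facet.span_carrier_eq (dualFacet F)]
    exact Facet.mem_span_corners_of (dualFacet F) (flip_mem_cham_dualFacet F hb) h

variable {d : P.Base → N}

theorem IsCCS.mem_yLocus_iff (hd : IsCCS d) (F : Facet P) {b : P.Base} (hb : b ∈ F.cham) (y : N) :
    y ∈ yLocus d F ↔
      (∀ j ∈ Jset F b, P.toLinearMap (fw b j) y = P.toLinearMap (fw b j) (d b)) ∧
        (∀ i ∈ b.support, F.sgn i = 0 → P.root' i y = 0) := by
  unfold yLocus
  rw [Set.mem_inter_iff, SetLike.mem_coe, Facet.mem_span_dualCarrier_iff F hb]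
  simp only [Set.mem_iInter]
  constructor
  · rintro ⟨h1, h2⟩
    refine ⟨fun j hj => ?_, h2⟩
    exact h1 _ (Facet.fw_mem_corners F hb hj) b (fw_mem_baseCorners b (mem_Jset.mp hj).1)
  · rintro ⟨h1, h2⟩
    refine ⟨fun w hw b₂ hb₂ => ?_, h2⟩
    obtain ⟨j, hj, rfl⟩ := Facet.exists_of_mem_corners F hb hw
    rw [h1 j hj]
    exact hd.corner_eq b b₂ _ (fw_mem_baseCorners b (mem_Jset.mp hj).1) hb₂

theorem IsCCS.yLocus_subsingleton (hd : IsCCS d) (F : Facet P) {y y' : N}
    (hy : y ∈ yLocus d F) (hy' : y' ∈ yLocus d F) : y = y' := by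
  let := Fintype.ofFinite ι
  obtain ⟨b, hb⟩ := Facet.exists_cham F
  rw [IsCCS.mem_yLocus_iff hd F hb] at hy hy'
  rw [← sub_eq_zero]
  set z := y - y' with hz
  have h1 : ∀ j ∈ Jset F b, P.toLinearMap (fw b j) z = 0 := by
    intro j hj; rw [hz, map_sub, hy.1 j hj, hy'.1 j hj, sub_self]
  have h2 : ∀ i ∈ b.support, F.sgn i = 0 → P.root' i z = 0 := by
    intro i hi h0; rw [hz, map_sub, hy.2 i hi h0, hy'.2 i hi h0, sub_self]
  have hB : P.flip.RootForm z (∑ l ∈ b.support, P.toLinearMap (fw b l) z • P.coroot l) = 0 := by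
    rw [map_sum]
    apply Finset.sum_eq_zero
    intro l hl
    rw [map_smul, smul_eq_mul]
    by_cases h0 : F.sgn l = 0
    · have h3 := two_mul_rootForm_root P.flip z l
      have h4 : P.flip.coroot' l z = 0 := h2 l hl h0
      rw [h4, zero_mul] at h3
      have : P.flip.RootForm z (P.coroot l) = 0 := by
        have h5 : P.flip.RootForm z (P.flip.root l) = 0 := by linarith
        exact h5
      rw [this, mul_zero]
    · rw [h1 l (mem_Jset.mpr ⟨hl, h0⟩), zero_mul]
  rw [sum_pairing_fw_coroot b z, P.flip.rootForm_apply_apply] at hB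
  apply eq_zero_of_forall_coroot' P.flip
  intro k
  have := (Finset.sum_eq_zero_iff_of_nonneg (fun k _ => mul_self_nonneg _)).mp hB k
    (Finset.mem_univ k)
  exact mul_self_eq_zero.mp this

theorem IsCCS.yLocus_eq_singleton (hd : IsCCS d) (F : Facet P) {y : N} (hy : y ∈ yLocus d F) :
    yLocus d F = {y} := by
  ext x
  rw [Set.mem_singleton_iff]
  exact ⟨fun hx => IsCCS.yLocus_subsingleton hd F hx hy, fun hx => hx ▸ hy⟩

theorem IsCCS.mem_yLocus_of_mem_dualSolid (hd : IsCCS d) (F : Facet P) {y : N}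
    (h1 : y ∈ dualSolid d F) (h2 : y ∈ Submodule.span R F.dualCarrier) : y ∈ yLocus d F :=
  ⟨(IsCCS.dualSolid_subset hd F h1).1, h2⟩

theorem IsCCS.pairing_eq_of_mem_yLocus (_hd : IsCCS d) (F : Facet P) {b : P.Base} (hb : b ∈ F.cham)
    {y : N} (hy : y ∈ yLocus d F) {σ : M} (hσ : σ ∈ Submodule.span R F.corners) :
    P.toLinearMap σ y = P.toLinearMap σ (d b) := by
  have hy1 := hy.1
  simp only [Set.mem_iInter] at hy1
  induction hσ using Submodule.span_induction with
  | mem m hm => exact hy1 m hm b (Facet.corners_subset_baseCorners F hb hm)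
  | zero => simp
  | add x y _ _ hx hy => rw [map_add, LinearMap.add_apply, LinearMap.add_apply, hx, hy]
  | smul a x _ hx => rw [map_smul, LinearMap.smul_apply, LinearMap.smul_apply, hx]

theorem mem_psi_self (F : Facet P) {b : P.Base} (hb : b ∈ F.cham) {j : ι} (hj : j ∈ Jset F b) :
    j ∈ F.Psi (fw b j) := by
  refine ⟨fun x hx => ?_, fun w' hw' hne x hx => ?_⟩
  · rw [(corr_fw_iff b (mem_Jset.mp hj).1 x).mp hx, root'_fcw b (mem_Jset.mp hj).1
      (mem_Jset.mp hj).1, if_pos rfl]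
  · obtain ⟨l, hl, rfl⟩ := Facet.exists_of_mem_corners F hb hw'
    rw [(corr_fw_iff b (mem_Jset.mp hl).1 x).mp hx, root'_fcw b (mem_Jset.mp hl).1
      (mem_Jset.mp hj).1, if_neg]
    rintro rfl
    exact hne rfl

theorem root'_eq_of_mem_psi (F : Facet P) {b : P.Base} (hb : b ∈ F.cham) {j : ι}
    (hj : j ∈ Jset F b) {k : ι} (hk : k ∈ F.Psi (fw b j)) {y : N}
    (hy : ∀ i ∈ b.support, F.sgn i = 0 → P.root' i y = 0) : P.root' k y = P.root' j y := by
  conv_lhs => rw [← sum_fcw b y]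
  rw [map_sum, Finset.sum_eq_single_of_mem j (mem_Jset.mp hj).1]
  · rw [map_smul, smul_eq_mul,
      hk.1 _ ((corr_fw_iff b (mem_Jset.mp hj).1 _).mpr rfl), mul_one]
  · intro l hl hlj
    rw [map_smul, smul_eq_mul]
    by_cases h0 : F.sgn l = 0
    · rw [hy l hl h0, zero_mul]
    · have hlJ : l ∈ Jset F b := mem_Jset.mpr ⟨hl, h0⟩
      have hne : fw b l ≠ fw b j := fun e => hlj (fw_injective b hl (mem_Jset.mp hj).1 e)
      rw [hk.2 _ (Facet.fw_mem_corners F hb hlJ) hne _ ((corr_fw_iff b hl _).mpr rfl), mul_zero]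

theorem IsCCS.numInv_eq_mul (hd : IsCCS d) (F : Facet P) {b : P.Base} (hb : b ∈ F.cham) {y : N}
    (hy : y ∈ yLocus d F) {j : ι} (hj : j ∈ Jset F b) :
    F.numInv d (fw b j) b =
      ((Set.toFinite (F.Psi (fw b j))).toFinset.card : R) * P.root' j y := by
  have hσ : sigmaPsi F (fw b j) ∈ Submodule.span R F.corners :=
    Facet.sum_psi_mem_span F _ (Facet.fw_mem_corners F hb hj)
  rw [numInv_eq, ← IsCCS.pairing_eq_of_mem_yLocus hd F hb hy hσ]
  unfold sigmaPsi
  rw [map_sum, LinearMap.sum_apply]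
  have hy2 := ((IsCCS.mem_yLocus_iff hd F hb y).mp hy).2
  rw [Finset.sum_congr rfl fun k hk =>
    root'_eq_of_mem_psi F hb hj ((Set.Finite.mem_toFinset _).mp hk) hy2]
  rw [Finset.sum_const, nsmul_eq_mul]

theorem psi_card_pos (F : Facet P) {b : P.Base} (hb : b ∈ F.cham) {j : ι} (hj : j ∈ Jset F b) :
    (0 : R) < ((Set.toFinite (F.Psi (fw b j))).toFinset.card : R) := by
  rw [Nat.cast_pos, Finset.card_pos]
  exact ⟨j, (Set.Finite.mem_toFinset _).mpr (mem_psi_self F hb hj)⟩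

/-- Characterisation of special facets by numerical invariants. -/
theorem IsCCS.isSpecial_iff (hd : IsCCS d) (F : Facet P) :
    ((∀ m ∈ F.corners, ∀ b ∈ F.cham, 0 < F.numInv d m b) ∧
        (dualSolid d F ∩ (Submodule.span R F.dualCarrier : Set N)).Nonempty) ↔
      IsSpecial d F := by
  constructor
  · rintro ⟨hS1, y, hy1, hy2⟩
    have hyL := IsCCS.mem_yLocus_of_mem_dualSolid hd F hy1 hy2
    obtain ⟨b, hb⟩ := Facet.exists_cham F
    refine ⟨y, ?_, hy1⟩
    rw [Facet.mem_dualCarrier_iff F hb]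
    intro i hi
    refine ⟨fun h0 => Facet.root'_eq_zero_of_mem_span F hy2 h0, fun hne => ?_⟩
    have hiJ : i ∈ Jset F b := mem_Jset.mpr ⟨hi, hne⟩
    have h1 := hS1 _ (Facet.fw_mem_corners F hb hiJ) b hb
    rw [IsCCS.numInv_eq_mul hd F hb hyL hiJ] at h1
    have hc := psi_card_pos F hb hiJ
    by_contra hcon
    push Not at hcon
    have := mul_nonpos_of_nonneg_of_nonpos hc.le hcon
    linarith
  · rintro ⟨y, hy1, hy2⟩
    have hys : y ∈ Submodule.span R F.dualCarrier := Submodule.subset_span hy1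
    have hyL := IsCCS.mem_yLocus_of_mem_dualSolid hd F hy2 hys
    refine ⟨fun m hm b hb => ?_, ⟨y, hy2, hys⟩⟩
    obtain ⟨j, hj, rfl⟩ := Facet.exists_of_mem_corners F hb hm
    rw [IsCCS.numInv_eq_mul hd F hb hyL hj]
    exact mul_pos (psi_card_pos F hb hj)
      (((Facet.mem_dualCarrier_iff F hb y).mp hy1 j (mem_Jset.mp hj).1).2 (mem_Jset.mp hj).2)

theorem IsCCS.exists_yLocus_eq_of_isSpecial (hd : IsCCS d) (F : Facet P) (hF : IsSpecial d F) :
    ∃ y₀ : N, yLocus d F = {y₀} ∧ F.dualCarrier ∩ dualSolid d F = {y₀} := by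
  obtain ⟨y₀, h1, h2⟩ := hF
  have hyL := IsCCS.mem_yLocus_of_mem_dualSolid hd F h2 (Submodule.subset_span h1)
  refine ⟨y₀, IsCCS.yLocus_eq_singleton hd F hyL, ?_⟩
  ext x
  rw [Set.mem_singleton_iff]
  constructor
  · rintro ⟨hx1, hx2⟩
    exact IsCCS.yLocus_subsingleton hd F
      (IsCCS.mem_yLocus_of_mem_dualSolid hd F hx2 (Submodule.subset_span hx1)) hyL
  · rintro rfl; exact ⟨h1, h2⟩

end Groth.Agent.H27.Ch
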