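import Groth.Agent.H27.Ch.Special

set_option autoImplicit false
set_option linter.unusedSectionVars false

/-!
# Special facets: maximal degree and the point of the solid closest to the origin
-/

namespace Groth.Agent.H27.Ch

open RootPairing RootCh Module
open scoped Classical

universe u v w x

variable {ι : Type u} {R : Type v} {M : Type w} {N : Type x}
  [Field R] [LinearOrder R] [IsStrictOrderedRing R]
  [AddCommGroup M] [Module R M] [AddCommGroup N] [Module R N]
  {P : RootPairing ι R M N} [Finite ι] [P.IsRootSystem] [P.IsCrystallographic] [P.IsReduced]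

theorem convex_halfspace (w : M) (c : R) : Convex R {y : N | c ≤ P.toLinearMap w y} := by
  intro x hx y hy a e ha he hae
  show c ≤ P.toLinearMap w (a • x + e • y)
  rw [map_add, map_smul, map_smul, smul_eq_mul, smul_eq_mul]
  have h1 := mul_le_mul_of_nonneg_left (show c ≤ P.toLinearMap w x from hx) ha
  have h2 := mul_le_mul_of_nonneg_left (show c ≤ P.toLinearMap w y from hy) he
  have : c = a * c + e * c := by rw [← add_mul, hae, one_mul]
  linarith

variable {d : P.Base → N}

theorem IsCCS.le_of_mem_solid (hd : IsCCS d) (c : P.Base) {w : M} (hw : w ∈ closedChamber c)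
    {y : N} (hy : y ∈ solid d) : P.toLinearMap w (d c) ≤ P.toLinearMap w y := by
  have hsub : solid d ⊆ {y : N | P.toLinearMap w (d c) ≤ P.toLinearMap w y} := by
    apply convexHull_min _ (convex_halfspace w _)
    rintro _ ⟨b', rfl⟩
    exact IsCCS.le_of_mem_closedChamber hd c hw b'
  exact hsub hy

theorem sum_le_sum_nonneg_set {r : ι → R} (A B : Finset ι) (hB : ∀ k, k ∈ B ↔ 0 ≤ r k) :
    ∑ k ∈ A, r k ≤ ∑ k ∈ B, r k ∧ (∑ k ∈ A, r k = ∑ k ∈ B, r k → A ⊆ B) := by
  have hsplit := Finset.sum_filter_add_sum_filter_not A (fun k => 0 ≤ r k) r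
  have h1 : ∑ k ∈ A.filter (fun k => 0 ≤ r k), r k ≤ ∑ k ∈ B, r k := by
    apply Finset.sum_le_sum_of_subset_of_nonneg
    · intro k hk; exact (hB k).mpr (Finset.mem_filter.mp hk).2
    · intro k hk _; exact (hB k).mp hk
  have h2 : ∑ k ∈ A.filter (fun k => ¬ 0 ≤ r k), r k ≤ 0 := by
    apply Finset.sum_nonpos
    intro k hk
    exact (not_le.mp (Finset.mem_filter.mp hk).2).le
  refine ⟨by linarith, fun heq k hk => ?_⟩
  rw [hB]
  by_contra hneg
  have hkmem : k ∈ A.filter (fun k => ¬ 0 ≤ r k) := Finset.mem_filter.mpr ⟨hk, hneg⟩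
  have h3 := Finset.add_sum_erase _ r hkmem
  have h4 : ∑ l ∈ (A.filter (fun k => ¬ 0 ≤ r k)).erase k, r l ≤ 0 := by
    apply Finset.sum_nonpos
    intro l hl
    exact (not_le.mp (Finset.mem_filter.mp (Finset.mem_of_mem_erase hl)).2).le
  have h5 : r k < 0 := not_le.mp hneg
  linarith

/-- A special facet has maximal degree and is the greatest facet of maximal degree. -/
theorem IsCCS.isGreatest_of_isSpecial (hd : IsCCS d) (F : Facet P) (b : P.Base) (hb : b ∈ F.cham)
    (hF : IsSpecial d F) :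
    (∀ (G : Facet P) (c : P.Base), c ∈ G.cham → G.deg d c ≤ F.deg d b) ∧
      ∀ (G : Facet P) (c : P.Base), c ∈ G.cham → G.deg d c = F.deg d b → G ≤ F := by
  obtain ⟨y₀, hy1, hy2⟩ := hF
  have hyL := IsCCS.mem_yLocus_of_mem_dualSolid hd F hy2 (Submodule.subset_span hy1)
  have hys : y₀ ∈ solid d := dualSolid_subset_solid d F hy2
  have hsgn : ∀ k, SignType.sign (P.root' k y₀) = F.sgn k := fun k => congrFun hy1 k
  have hpair : ∀ G : Facet P, P.toLinearMap (sigma G) y₀ =
      ∑ k ∈ (Set.toFinite G.parab).toFinset, P.root' k y₀ := by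
    intro G
    unfold sigma
    rw [map_sum, LinearMap.sum_apply]
  have hF_eq : F.deg d b = ∑ k ∈ (Set.toFinite F.parab).toFinset, P.root' k y₀ := by
    rw [deg_eq, ← IsCCS.pairing_eq_of_mem_yLocus hd F hb hyL
      (Facet.carrier_subset_span_corners F (sigma_mem_carrier F)), hpair]
  have hG_le : ∀ (G : Facet P) (c : P.Base), c ∈ G.cham →
      G.deg d c ≤ ∑ k ∈ (Set.toFinite G.parab).toFinset, P.root' k y₀ := by
    intro G c hc
    rw [deg_eq, ← hpair]
    exact IsCCS.le_of_mem_solid hd c (hc (sigma_mem_carrier G)) hys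
  have hB : ∀ k, k ∈ (Set.toFinite F.parab).toFinset ↔ 0 ≤ P.root' k y₀ := by
    intro k
    rw [Set.Finite.mem_toFinset]
    show F.sgn k ≠ -1 ↔ _
    rw [← hsgn k, Ne, sign_eq_neg_one_iff, not_lt]
  refine ⟨fun G c hc => ?_, fun G c hc heq => ?_⟩
  · have := (sum_le_sum_nonneg_set (r := fun k => P.root' k y₀)
      (Set.toFinite G.parab).toFinset _ hB).1
    have h2 := hG_le G c hc
    linarith
  · have h1 := sum_le_sum_nonneg_set (r := fun k => P.root' k y₀)
      (Set.toFinite G.parab).toFinset _ hB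
    have h2 := hG_le G c hc
    have heq' : ∑ k ∈ (Set.toFinite G.parab).toFinset, P.root' k y₀ =
        ∑ k ∈ (Set.toFinite F.parab).toFinset, P.root' k y₀ := by
      have := h1.1
      linarith
    have hsub := h1.2 heq'
    rw [Facet.le_iff_parab]
    intro k hk
    have := hsub ((Set.Finite.mem_toFinset _).mpr hk)
    exact (Set.Finite.mem_toFinset _).mp this

/-! ### Invariant scalar products -/

section Form

variable (B : LinearMap.BilinForm R N)

theorem inv_form_coroot
    (hBi : ∀ (i : ι) (y z : N), B (P.coreflection i y) (P.coreflection i z) = B y z)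
    (y : N) (k : ι) : 2 * B y (P.coroot k) = P.root' k y * B (P.coroot k) (P.coroot k) := by
  have h := hBi k y (P.coroot k)
  rw [P.coreflection_apply_self, P.coreflection_apply] at h
  simp only [map_neg, map_sub, map_smul, LinearMap.sub_apply, LinearMap.smul_apply,
    smul_eq_mul] at h
  linarith

/-- The vector of `M` representing the functional `B y₀`. -/
noncomputable def formVec (y₀ : N) : M := P.toLinearMap.toPerfPair.symm (B y₀)

theorem pairing_formVec (y₀ y : N) : P.toLinearMap (formVec (P := P) B y₀) y = B y₀ y := by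
  unfold formVec
  rw [P.toLinearMap.apply_symm_toPerfPair_self]

theorem sgnVec_formVec (hBp : ∀ y : N, y ≠ 0 → 0 < B y y)
    (hBi : ∀ (i : ι) (y z : N), B (P.coreflection i y) (P.coreflection i z) = B y z) (y₀ : N) :
    sgnVec P (formVec (P := P) B y₀) = cosgnVec P y₀ := by
  funext k
  unfold sgnVec cosgnVec
  have h1 : P.coroot' k (formVec (P := P) B y₀) = B y₀ (P.coroot k) := pairing_formVec B y₀ _
  have h2 := inv_form_coroot B hBi y₀ k
  have hc : 0 < B (P.coroot k) (P.coroot k) := hBp _ (P.flip.ne_zero k)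
  rw [h1]
  rcases lt_trichotomy (P.root' k y₀) 0 with h | h | h
  · rw [sign_neg h, sign_neg]
    have := mul_neg_of_neg_of_pos h hc
    linarith
  · rw [h, zero_mul] at h2
    rw [h, sign_zero, sign_eq_zero_iff]
    linarith
  · rw [sign_pos h, sign_pos]
    have := mul_pos h hc
    linarith

theorem IsCCS.form_le (hd : IsCCS d) (hBp : ∀ y : N, y ≠ 0 → 0 < B y y)
    (hBi : ∀ (i : ι) (y z : N), B (P.coreflection i y) (P.coreflection i z) = B y z)
    (F : Facet P) {y₀ : N} (hy1 : y₀ ∈ F.dualCarrier) (hyL : y₀ ∈ yLocus d F) {y : N}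
    (hy : y ∈ solid d) : B y₀ y₀ ≤ B y₀ y := by
  obtain ⟨b, hb⟩ := Facet.exists_cham F
  have hξ : formVec (P := P) B y₀ ∈ F.carrier := by
    show sgnVec P _ = F.sgn
    rw [sgnVec_formVec B hBp hBi]; exact hy1
  rw [← pairing_formVec (P := P) B y₀ y₀, ← pairing_formVec (P := P) B y₀ y,
    pairing_eq_sum_Jset F hb hξ, pairing_eq_sum_Jset F hb hξ]
  apply Finset.sum_le_sum
  intro j hj
  have ha : 0 < P.coroot' j (formVec (P := P) B y₀) :=
    ((Facet.mem_carrier_iff F hb _).mp hξ j (mem_Jset.mp hj).1).2 (mem_Jset.mp hj).2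
  apply mul_le_mul_of_nonneg_left _ ha.le
  rw [((IsCCS.mem_yLocus_iff hd F hb y₀).mp hyL).1 j hj]
  exact IsCCS.solid_subset_halfClosed hd _ hy b (fw_mem_baseCorners b (mem_Jset.mp hj).1)

theorem form_expand (hBs : ∀ y z : N, B y z = B z y) (y₀ z : N) (t : R) :
    B (y₀ + t • z) (y₀ + t • z) = B y₀ y₀ + 2 * t * B y₀ z + t * t * B z z := by
  simp only [map_add, map_smul, LinearMap.add_apply, LinearMap.smul_apply, smul_eq_mul]
  rw [hBs z y₀]; ring

theorem IsCCS.isMinOn_of_isSpecial (hd : IsCCS d) (hBs : ∀ y z : N, B y z = B z y)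
    (hBp : ∀ y : N, y ≠ 0 → 0 < B y y)
    (hBi : ∀ (i : ι) (y z : N), B (P.coreflection i y) (P.coreflection i z) = B y z)
    (F : Facet P) (hF : IsSpecial d F) :
    ∃ y₀ : N, yLocus d F = {y₀} ∧ y₀ ∈ solid d ∧
      ∀ y ∈ solid d, y ≠ y₀ → B y₀ y₀ < B y y := by
  obtain ⟨y₀, hy1, hy2⟩ := hF
  have hyL := IsCCS.mem_yLocus_of_mem_dualSolid hd F hy2 (Submodule.subset_span hy1)
  refine ⟨y₀, IsCCS.yLocus_eq_singleton hd F hyL, dualSolid_subset_solid d F hy2,
    fun y hy hne => ?_⟩
  have h1 := IsCCS.form_le B hd hBp hBi F hy1 hyL hy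
  have hz : y - y₀ ≠ 0 := sub_ne_zero.mpr hne
  have h2 := hBp _ hz
  have h3 := form_expand B hBs y₀ (y - y₀) 1
  rw [one_smul, add_sub_cancel] at h3
  have h4 : B y₀ (y - y₀) = B y₀ y - B y₀ y₀ := by rw [map_sub]
  rw [h3, h4]
  linarith

theorem variational (hBs : ∀ y z : N, B y z = B z y) (hBp : ∀ y : N, y ≠ 0 → 0 < B y y)
    {C : Set N} (hC : Convex R C) {y₀ : N} (hy₀ : y₀ ∈ C) (hmin : ∀ y ∈ C, B y₀ y₀ ≤ B y y)
    {y : N} (hy : y ∈ C) : B y₀ y₀ ≤ B y₀ y := by
  by_contra hcon
  push Not at hcon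
  set z := y - y₀ with hz
  have hβ : B y₀ z < 0 := by rw [hz, map_sub]; linarith
  have hγ : 0 ≤ B z z := by
    by_cases h0 : z = 0
    · rw [h0]; simp
    · exact (hBp z h0).le
  have key : ∀ t : R, 0 < t → t ≤ 1 → 0 ≤ 2 * t * B y₀ z + t * t * B z z := by
    intro t ht0 ht1
    have hmem : (1 - t) • y₀ + t • y ∈ C := hC hy₀ hy (by linarith) ht0.le (by ring)
    have hw : (1 - t) • y₀ + t • y = y₀ + t • z := by rw [hz]; module
    have := hmin _ hmem
    rw [hw, form_expand B hBs] at this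
    linarith
  by_cases hcase : B z z ≤ - B y₀ z
  · have := key 1 one_pos le_rfl
    linarith
  · push Not at hcase
    have hγpos : 0 < B z z := by linarith
    have ht0 : 0 < - B y₀ z / B z z := div_pos (by linarith) hγpos
    have ht1 : - B y₀ z / B z z ≤ 1 := by rw [div_le_one hγpos]; exact hcase.le
    have := key _ ht0 ht1
    have e : - B y₀ z / B z z * B z z = - B y₀ z := div_mul_cancel₀ _ hγpos.ne'
    have : 2 * (- B y₀ z / B z z) * B y₀ z + - B y₀ z / B z z * (- B y₀ z / B z z) * B z z =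
        (- B y₀ z / B z z) * B y₀ z := by
      rw [mul_assoc (- B y₀ z / B z z) (- B y₀ z / B z z) (B z z), e]; ring
    have hneg : (- B y₀ z / B z z) * B y₀ z < 0 := mul_neg_of_pos_of_neg ht0 hβ
    linarith

theorem IsCCS.isSpecial_of_isMinOn (hd : IsCCS d) (hBs : ∀ y z : N, B y z = B z y)
    (hBp : ∀ y : N, y ≠ 0 → 0 < B y y)
    (hBi : ∀ (i : ι) (y z : N), B (P.coreflection i y) (P.coreflection i z) = B y z)
    (y₀ : N) (hy₀ : y₀ ∈ solid d) (hmin : ∀ y ∈ solid d, B y₀ y₀ ≤ B y y)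
    (F : Facet P) (hF : y₀ ∈ F.dualCarrier) :
    IsSpecial d F ∧ yLocus d F = {y₀} := by
  obtain ⟨b, hb⟩ := Facet.exists_cham F
  have hξ : formVec (P := P) B y₀ ∈ F.carrier := by
    show sgnVec P _ = F.sgn
    rw [sgnVec_formVec B hBp hBi]; exact hF
  have hvar : B y₀ y₀ ≤ B y₀ (d b) :=
    variational B hBs hBp (convex_convexHull R _) hy₀ hmin
      (subset_convexHull R _ (Set.mem_range_self b))
  rw [← pairing_formVec (P := P) B y₀ y₀, ← pairing_formVec (P := P) B y₀ (d b),
    pairing_eq_sum_Jset F hb hξ, pairing_eq_sum_Jset F hb hξ] at hvar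
  have hterm : ∀ j ∈ Jset F b, P.coroot' j (formVec (P := P) B y₀) * P.toLinearMap (fw b j) (d b) ≤
      P.coroot' j (formVec (P := P) B y₀) * P.toLinearMap (fw b j) y₀ := by
    intro j hj
    have ha : 0 < P.coroot' j (formVec (P := P) B y₀) :=
      ((Facet.mem_carrier_iff F hb _).mp hξ j (mem_Jset.mp hj).1).2 (mem_Jset.mp hj).2
    exact mul_le_mul_of_nonneg_left
      (IsCCS.solid_subset_halfClosed hd _ hy₀ b (fw_mem_baseCorners b (mem_Jset.mp hj).1)) ha.le
  have heq : ∀ j ∈ Jset F b, P.toLinearMap (fw b j) y₀ = P.toLinearMap (fw b j) (d b) := by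
    intro j hj
    have ha : 0 < P.coroot' j (formVec (P := P) B y₀) :=
      ((Facet.mem_carrier_iff F hb _).mp hξ j (mem_Jset.mp hj).1).2 (mem_Jset.mp hj).2
    have h1 := Finset.add_sum_erase (Jset F b)
      (fun j => P.coroot' j (formVec (P := P) B y₀) * P.toLinearMap (fw b j) (d b)) hj
    have h2 := Finset.add_sum_erase (Jset F b)
      (fun j => P.coroot' j (formVec (P := P) B y₀) * P.toLinearMap (fw b j) y₀) hj
    have h3 : ∑ l ∈ (Jset F b).erase j,
        P.coroot' l (formVec (P := P) B y₀) * P.toLinearMap (fw b l) (d b) ≤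
        ∑ l ∈ (Jset F b).erase j,
        P.coroot' l (formVec (P := P) B y₀) * P.toLinearMap (fw b l) y₀ :=
      Finset.sum_le_sum fun l hl => hterm l (Finset.mem_of_mem_erase hl)
    have h4 := hterm j hj
    have h5 : P.coroot' j (formVec (P := P) B y₀) * P.toLinearMap (fw b j) y₀ =
        P.coroot' j (formVec (P := P) B y₀) * P.toLinearMap (fw b j) (d b) := by
      linarith
    exact mul_left_cancel₀ ha.ne' h5
  have hyL : y₀ ∈ yLocus d F := by
    rw [IsCCS.mem_yLocus_iff hd F hb]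
    exact ⟨heq, fun i hi h0 => ((Facet.mem_dualCarrier_iff F hb y₀).mp hF i hi).1 h0⟩
  have hsolid : y₀ ∈ dualSolid d F := by
    rw [IsCCS.dualSolid_eq hd F]
    refine ⟨hyL.1, ?_⟩
    simp only [Set.mem_iInter]
    intro m _
    exact IsCCS.solid_subset_halfClosed hd m hy₀
  exact ⟨⟨y₀, hF, hsolid⟩, IsCCS.yLocus_eq_singleton hd F hyL⟩

end Form

end Groth.Agent.H27.Ch
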