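import Groth.Agent.H27.Ch.Special2
import Mathlib.LinearAlgebra.FiniteDimensional.Lemmas

set_option autoImplicit false
set_option linter.unusedSectionVars false

/-!
# Special facets: existence and uniqueness
-/

namespace Groth.Agent.H27.Ch

open RootPairing RootCh Module
open scoped Classical

universe u v w x

variable {ι : Type u} {R : Type v} {M : Type w} {N : Type x}
  [Field R] [LinearOrder R] [IsStrictOrderedRing R]
  [AddCommGroup M] [Module R M] [AddCommGroup N] [Module R N]
  {P : RootPairing ι R M N} [Finite ι] [P.IsRootSystem] [P.IsCrystallographic] [P.IsReduced]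

theorem eq_zero_of_mixed (F : Facet P) {b : P.Base} {z : N}
    (h1 : ∀ j ∈ Jset F b, P.toLinearMap (fw b j) z = 0)
    (h2 : ∀ i ∈ b.support, F.sgn i = 0 → P.root' i z = 0) : z = 0 := by
  let := Fintype.ofFinite ι
  have hB : P.flip.RootForm z (∑ l ∈ b.support, P.toLinearMap (fw b l) z • P.coroot l) = 0 := by
    rw [map_sum]
    apply Finset.sum_eq_zero
    intro l hl
    rw [map_smul, smul_eq_mul]
    by_cases h0 : F.sgn l = 0
    · have h3 := two_mul_rootForm_root P.flip z l
      have h4 : P.flip.coroot' l z = 0 := h2 l hl h0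
      rw [h4, zero_mul] at h3
      have : P.flip.RootForm z (P.coroot l) = 0 := by
        have h5 : P.flip.RootForm z (P.flip.root l) = 0 := by linarith
        exact h5
      rw [this, mul_zero]
    · rw [h1 l (mem_Jset.mpr ⟨hl, h0⟩), zero_mul]
  rw [sum_pairing_fw_coroot b z, P.flip.rootForm_apply_apply] at hB
  apply eq_zero_of_forall_coroot' P.flip
  intro k
  have := (Finset.sum_eq_zero_iff_of_nonneg (fun k _ => mul_self_nonneg _)).mp hB k
    (Finset.mem_univ k)
  exact mul_self_eq_zero.mp this

variable {d : P.Base → N}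

/-- The point `y(F)` exists for every facet. -/
theorem IsCCS.exists_mem_yLocus (hd : IsCCS d) (F : Facet P) : ∃ y, y ∈ yLocus d F := by
  obtain ⟨b, hb⟩ := Facet.exists_cham F
  let Λ : N →ₗ[R] (b.support → R) :=
    LinearMap.pi fun l : b.support =>
      if F.sgn l = 0 then P.root' l else P.toLinearMap (fw b l)
  have hΛ : ∀ (y : N) (l : b.support), Λ y l =
      if F.sgn l = 0 then P.root' l y else P.toLinearMap (fw b l) y := by
    intro y l
    show (if F.sgn l = 0 then P.root' (l : ι) else P.toLinearMap (fw b l)) y = _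
    split_ifs <;> rfl
  have hinj : Function.Injective Λ := by
    rw [injective_iff_map_eq_zero]
    intro z hz
    apply eq_zero_of_mixed F (b := b)
    · intro j hj
      have := congrFun hz ⟨j, (mem_Jset.mp hj).1⟩
      rw [hΛ, if_neg (mem_Jset.mp hj).2] at this
      exact this
    · intro i hi h0
      have := congrFun hz ⟨i, hi⟩
      rw [hΛ, if_pos h0] at this
      exact this
  have : Module.Finite R N := Module.Finite.of_basis b.toCoweightBasis
  have hrank : finrank R N = finrank R (b.support → R) := by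
    rw [Module.finrank_eq_card_basis b.toCoweightBasis, Module.finrank_fintype_fun_eq_card]
  have hsurj : Function.Surjective Λ :=
    (LinearMap.injective_iff_surjective_of_finrank_eq_finrank hrank).mp hinj
  obtain ⟨y, hy⟩ := hsurj fun l => if F.sgn l = 0 then 0 else P.toLinearMap (fw b l) (d b)
  refine ⟨y, (IsCCS.mem_yLocus_iff hd F hb y).mpr ⟨fun j hj => ?_, fun i hi h0 => ?_⟩⟩
  · have := congrFun hy ⟨j, (mem_Jset.mp hj).1⟩
    rw [hΛ] at this
    simp only [if_neg (mem_Jset.mp hj).2] at this
    exact this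
  · have := congrFun hy ⟨i, hi⟩
    rw [hΛ] at this
    simp only [if_pos h0] at this
    exact this

theorem Jset_ofVec_sum (b : P.Base) (T : Finset ι) (hT : T ⊆ b.support) :
    Jset (Facet.ofVec P (∑ j ∈ T, fw b j)) b = T := by
  ext l
  rw [mem_Jset]
  constructor
  · rintro ⟨hl, hne⟩; exact (sgn_ofVec_sum_fw b T hT hl).mp hne
  · intro hl; exact ⟨hT hl, (sgn_ofVec_sum_fw b T hT (hT hl)).mpr hl⟩

theorem ofVec_sum_le (b : P.Base) {T T' : Finset ι} (hT : T ⊆ b.support) (hT' : T' ⊆ b.support)
    (h : T' ⊆ T) :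
    Facet.ofVec P (∑ j ∈ T, fw b j) ≤ Facet.ofVec P (∑ j ∈ T', fw b j) := by
  intro k
  refine sgnVec_le_of b (sum_fw_mem_closedChamber b T' hT') (sum_fw_mem_closedChamber b T hT)
    (fun l hl h0 => ?_) k
  rw [coroot'_sum_fw b T hT hl] at h0
  rw [coroot'_sum_fw b T' hT' hl]
  by_cases hlT : l ∈ T
  · rw [if_pos hlT] at h0; exact absurd h0 one_ne_zero
  · rw [if_neg (fun h' => hlT (h h'))]

theorem Facet.eq_ofVec_sum_Jset (F : Facet P) {b : P.Base} (hb : b ∈ F.cham) :
    F = Facet.ofVec P (∑ j ∈ Jset F b, fw b j) := by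
  apply Facet.ext
  exact (Facet.sum_Jset_mem_carrier F hb).symm

theorem pairing_sigma (G : Facet P) (y : N) :
    P.toLinearMap (sigma G) y = ∑ k ∈ (Set.toFinite G.parab).toFinset, P.root' k y := by
  unfold sigma
  rw [map_sum, LinearMap.sum_apply]

theorem sum_parab_eq_of_le {F G : Facet P} (hGF : G ≤ F) {y : N}
    (hy : y ∈ Submodule.span R F.dualCarrier) :
    ∑ k ∈ (Set.toFinite G.parab).toFinset, P.root' k y =
      ∑ k ∈ (Set.toFinite F.parab).toFinset, P.root' k y := by
  apply Finset.sum_subset
  · intro k hk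
    rw [Set.Finite.mem_toFinset] at hk ⊢
    exact (Facet.le_iff_parab G F).mp hGF hk
  · intro k hk hk'
    rw [Set.Finite.mem_toFinset] at hk hk'
    have hF : F.sgn k ≠ -1 := hk
    have hG : G.sgn k = -1 := by by_contra h; exact hk' h
    have h0 : F.sgn k = 0 := by
      rcases hGF k with h | h
      · exact h
      · rw [hG] at h; exact absurd h hF
    exact Facet.root'_eq_zero_of_mem_span F hy h0

/-- A facet of maximal degree that is maximal among the facets of that degree is special. -/
theorem IsCCS.isSpecial_of_maximal (hd : IsCCS d) (F : Facet P) (b : P.Base) (hb : b ∈ F.cham)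
    (hmax : ∀ (G : Facet P) (c : P.Base), c ∈ G.cham → G.deg d c ≤ F.deg d b)
    (hmaxl : ∀ (G : Facet P) (c : P.Base), c ∈ G.cham → G.deg d c = F.deg d b → F ≤ G → G = F) :
    IsSpecial d F := by
  obtain ⟨y₁, hyL⟩ := IsCCS.exists_mem_yLocus hd F
  have hyspan : y₁ ∈ Submodule.span R F.dualCarrier := hyL.2
  have hdegF : ∀ b' ∈ F.cham, F.deg d b' = ∑ k ∈ (Set.toFinite F.parab).toFinset, P.root' k y₁ := by
    intro b' hb'
    rw [deg_eq, ← IsCCS.pairing_eq_of_mem_yLocus hd F hb' hyL
      (Facet.carrier_subset_span_corners F (sigma_mem_carrier F)), pairing_sigma]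
  -- Part (2): y₁ lies in the dual solid
  have hsolid : y₁ ∈ dualSolid d F := by
    rw [IsCCS.dualSolid_eq hd F]
    refine ⟨hyL.1, ?_⟩
    simp only [Set.mem_iInter]
    intro m hm b₂ hb₂
    simp only [Facet.corners', Set.mem_iUnion] at hm
    obtain ⟨b', hb', hmb'⟩ := hm
    rw [hd.corner_eq b₂ b' m hb₂ hmb']
    rw [baseCorners_eq] at hmb'
    obtain ⟨i, hi, rfl⟩ := hmb'
    by_cases h0 : F.sgn i = 0
    · by_contra hlt
      push Not at hlt
      have hTsub : insert i (Jset F b') ⊆ b'.support := by
        intro l hl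
        rcases Finset.mem_insert.mp hl with rfl | hl
        · exact hi
        · exact Jset_subset F b' hl
      set G := Facet.ofVec P (∑ j ∈ insert i (Jset F b'), fw b' j) with hG
      have hbG : b' ∈ G.cham := cham_ofVec (sum_fw_mem_closedChamber b' _ hTsub)
      have hJG : Jset G b' = insert i (Jset F b') := Jset_ofVec_sum b' _ hTsub
      have hGF : G ≤ F := by
        rw [Facet.eq_ofVec_sum_Jset F hb']
        exact ofVec_sum_le b' hTsub (Jset_subset F b') (Finset.subset_insert _ _)
      have h1 : P.toLinearMap (sigma G) y₁ < G.deg d b' := by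
        rw [deg_eq_sum d G hbG, pairing_eq_sum_Jset G hbG (sigma_mem_carrier G), hJG]
        apply Finset.sum_lt_sum
        · intro l hl
          have ha : 0 < P.coroot' l (sigma G) :=
            coroot'_sigma_pos G hbG (by rw [hJG]; exact hl)
          apply mul_le_mul_of_nonneg_left _ ha.le
          rcases Finset.mem_insert.mp hl with rfl | hl
          · exact hlt.le
          · exact (((IsCCS.mem_yLocus_iff hd F hb' y₁).mp hyL).1 l hl).le
        · refine ⟨i, Finset.mem_insert_self _ _, ?_⟩
          have ha : 0 < P.coroot' i (sigma G) :=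
            coroot'_sigma_pos G hbG (by rw [hJG]; exact Finset.mem_insert_self _ _)
          exact mul_lt_mul_of_pos_left hlt ha
      rw [pairing_sigma, sum_parab_eq_of_le hGF hyspan, ← hdegF b' hb',
        IsCCS.deg_eq_deg hd F hb' hb] at h1
      exact absurd (hmax G b' hbG) (not_le.mpr h1)
    · exact (((IsCCS.mem_yLocus_iff hd F hb' y₁).mp hyL).1 i (mem_Jset.mpr ⟨hi, h0⟩)).ge
  -- Part (1): y₁ lies in the dual facet
  refine ⟨y₁, ?_, hsolid⟩
  rw [Facet.mem_dualCarrier_iff F hb]
  intro j₀ hj₀
  refine ⟨fun h0 => Facet.root'_eq_zero_of_mem_span F hyspan h0, fun hne => ?_⟩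
  by_contra hle
  push Not at hle
  have hj₀J : j₀ ∈ Jset F b := mem_Jset.mpr ⟨hj₀, hne⟩
  have hTsub : (Jset F b).erase j₀ ⊆ b.support :=
    (Finset.erase_subset _ _).trans (Jset_subset F b)
  set G := Facet.ofVec P (∑ j ∈ (Jset F b).erase j₀, fw b j) with hG
  have hbG : b ∈ G.cham := cham_ofVec (sum_fw_mem_closedChamber b _ hTsub)
  have hJG : Jset G b = (Jset F b).erase j₀ := Jset_ofVec_sum b _ hTsub
  have hFG : F ≤ G := by
    conv_lhs => rw [Facet.eq_ofVec_sum_Jset F hb]
    exact ofVec_sum_le b (Jset_subset F b) hTsub (Finset.erase_subset _ _)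
  have hGne : G ≠ F := by
    intro e
    have h1 : fw b j₀ ∈ F.corners := Facet.fw_mem_corners F hb hj₀J
    rw [← e, Facet.corners_eq' G hbG, hJG] at h1
    obtain ⟨l, hl, hl'⟩ := h1
    rw [Finset.mem_coe, Finset.mem_erase] at hl
    exact hl.1 (fw_injective b (mem_Jset.mp hl.2).1 hj₀ hl')
  -- the degree of G is at least the degree of F
  have hτ : sigma G - sigma F ∈ Submodule.span R F.corners := by
    apply Facet.mem_span_corners_of F hb
    intro i hi h0
    have hG0 : G.sgn i = 0 := by
      rcases hFG i with h | h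
      · exact h
      · rw [h, h0]
    rw [map_sub, ((Facet.mem_carrier_iff G hbG _).mp (sigma_mem_carrier G) i hi).1 hG0,
      ((Facet.mem_carrier_iff F hb _).mp (sigma_mem_carrier F) i hi).1 h0, sub_zero]
  have hdiff : G.deg d b - F.deg d b = P.toLinearMap (sigma G - sigma F) y₁ := by
    rw [deg_eq, deg_eq, IsCCS.pairing_eq_of_mem_yLocus hd F hb hyL hτ, map_sub,
      LinearMap.sub_apply]
  have hsubset : (Set.toFinite F.parab).toFinset ⊆ (Set.toFinite G.parab).toFinset := by
    intro k hk
    rw [Set.Finite.mem_toFinset] at hk ⊢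
    exact (Facet.le_iff_parab F G).mp hFG hk
  have hnn : 0 ≤ ∑ k ∈ (Set.toFinite G.parab).toFinset \ (Set.toFinite F.parab).toFinset,
      P.root' k y₁ := by
    apply Finset.sum_nonneg
    intro k hk
    rw [Finset.mem_sdiff, Set.Finite.mem_toFinset, Set.Finite.mem_toFinset] at hk
    have hGk : G.sgn k ≠ -1 := hk.1
    have hFk : F.sgn k = -1 := by by_contra h; exact hk.2 h
    have hGk0 : G.sgn k = 0 := by
      rcases hFG k with h | h
      · exact h
      · rw [hFk] at h; exact absurd h hGk
    have hnpos : ¬ b.IsPos k := by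
      intro hpos
      rcases Facet.sgn_of_isPos F hb hpos with h | h
      · rw [hFk] at h; exact absurd h (by decide)
      · rw [hFk] at h; exact absurd h (by decide)
    have hpos' : b.IsPos (P.reflectionPerm k k) := (isPos_neg_iff b k).mpr hnpos
    have hGk' : G.sgn (P.reflectionPerm k k) = 0 := by rw [Facet.sgn_neg, hGk0]; rfl
    -- pairing of -k with the coweights of T vanishes
    have hyG : (∑ j ∈ Jset G b, fcw b j) ∈ G.dualCarrier :=
      Facet.sum_Jset_mem_carrier (dualFacet G) (flip_mem_cham_dualFacet G hbG)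
    have hzero : P.root' (P.reflectionPerm k k) (∑ j ∈ Jset G b, fcw b j) = 0 := by
      have e : SignType.sign (P.root' (P.reflectionPerm k k) (∑ j ∈ Jset G b, fcw b j)) =
          G.sgn (P.reflectionPerm k k) := congrFun hyG _
      rw [hGk'] at e
      exact sign_eq_zero_iff.mp e
    rw [map_sum] at hzero
    have hcod : ∀ l ∈ b.support, 0 ≤ P.root' (P.reflectionPerm k k) (fcw b l) := by
      intro l hl
      apply root'_nonneg_of_isPos _ hpos'
      intro i hi
      rw [root'_fcw b hl hi]
      split_ifs <;> norm_num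
    have hTzero : ∀ l ∈ Jset G b, P.root' (P.reflectionPerm k k) (fcw b l) = 0 :=
      (Finset.sum_eq_zero_iff_of_nonneg fun l hl => hcod l (mem_Jset.mp hl).1).mp hzero
    -- expand y₁ in the fundamental coweights
    have hexp : P.root' (P.reflectionPerm k k) y₁ =
        P.root' j₀ y₁ * P.root' (P.reflectionPerm k k) (fcw b j₀) := by
      conv_lhs => rw [← sum_fcw b y₁]
      rw [map_sum, Finset.sum_eq_single_of_mem j₀ hj₀]
      · rw [map_smul, smul_eq_mul]
      · intro l hl hlj
        rw [map_smul, smul_eq_mul]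
        by_cases h0 : F.sgn l = 0
        · rw [Facet.root'_eq_zero_of_mem_span F hyspan h0, zero_mul]
        · have : l ∈ Jset G b := by
            rw [hJG, Finset.mem_erase]; exact ⟨hlj, mem_Jset.mpr ⟨hl, h0⟩⟩
          rw [hTzero l this, mul_zero]
    have h1 : P.root' (P.reflectionPerm k k) y₁ ≤ 0 := by
      rw [hexp]
      exact mul_nonpos_of_nonpos_of_nonneg hle (hcod j₀ hj₀)
    rw [root'_neg] at h1
    linarith
  have hge : F.deg d b ≤ G.deg d b := by
    have h1 := Finset.sum_sdiff (f := fun k => P.root' k y₁) hsubset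
    rw [map_sub, LinearMap.sub_apply, pairing_sigma, pairing_sigma] at hdiff
    linarith
  have heq : G.deg d b = F.deg d b := le_antisymm (hmax G b hbG) hge
  exact hGne (hmaxl G b hbG heq hFG)

end Groth.Agent.H27.Ch

namespace Groth.Agent.H27.Ch

open RootPairing RootCh Module
open scoped Classical

universe u v w x

variable {ι : Type u} {R : Type v} {M : Type w} {N : Type x}
  [Field R] [LinearOrder R] [IsStrictOrderedRing R]
  [AddCommGroup M] [Module R M] [AddCommGroup N] [Module R N]
  {P : RootPairing ι R M N} [Finite ι] [P.IsRootSystem] [P.IsCrystallographic] [P.IsReduced]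
  {d : P.Base → N}

instance instFiniteFacet : Finite (Facet P) :=
  Finite.of_injective (fun F : Facet P => F.sgn) (fun _ _ h => Facet.ext h)

/-- There is exactly one special facet. -/
theorem IsCCS.existsUnique_isSpecial (hd : IsCCS d) : ∃! F : Facet P, IsSpecial d F := by
  have hne : Nonempty (Facet P) := ⟨Facet.origin P⟩
  set degF : Facet P → R := fun F => F.deg d (Classical.choose (Facet.exists_cham F)) with hdegF
  have hch : ∀ F : Facet P, Classical.choose (Facet.exists_cham F) ∈ F.cham :=
    fun F => Classical.choose_spec (Facet.exists_cham F)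
  have hdeg : ∀ (G : Facet P) (c : P.Base), c ∈ G.cham → G.deg d c = degF G :=
    fun G c hc => IsCCS.deg_eq_deg hd G hc (hch G)
  obtain ⟨F₀, hF₀⟩ := Finite.exists_max degF
  have hSfin : ({G : Facet P | degF G = degF F₀} : Set (Facet P)).Finite := Set.toFinite _
  obtain ⟨F, _, hFmax⟩ := hSfin.exists_le_maximal (a := F₀) rfl
  have hFS : degF F = degF F₀ := hFmax.1
  have hspecial : IsSpecial d F := by
    apply IsCCS.isSpecial_of_maximal hd F _ (hch F)
    · intro G c hc
      rw [hdeg G c hc]
      show degF G ≤ degF F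
      rw [hFS]; exact hF₀ G
    · intro G c hc heq hFG
      have hGS : degF G = degF F₀ := by
        rw [← hdeg G c hc, heq]; exact hFS
      exact le_antisymm (hFmax.2 hGS hFG) hFG
  refine ⟨F, hspecial, fun F' hF' => ?_⟩
  obtain ⟨b, hb⟩ := Facet.exists_cham F
  obtain ⟨b', hb'⟩ := Facet.exists_cham F'
  have h1 := IsCCS.isGreatest_of_isSpecial hd F b hb hspecial
  have h2 := IsCCS.isGreatest_of_isSpecial hd F' b' hb' hF'
  have heq : F'.deg d b' = F.deg d b := le_antisymm (h1.1 F' b' hb') (h2.1 F b hb)
  exact le_antisymm (h1.2 F' b' hb' heq) (h2.2 F b hb heq.symm)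

end Groth.Agent.H27.Ch
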