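import Groth.Agent.H27.Ch.Parab

set_option autoImplicit false
set_option linter.unusedSectionVars false

/-!
# Sums of roots over parabolic sets and elementary sets
-/

namespace Groth.Agent.H27.Ch

open RootPairing RootCh Module
open scoped Classical

universe u v w x

variable {ι : Type u} {R : Type v} {M : Type w} {N : Type x}
  [Field R] [LinearOrder R] [IsStrictOrderedRing R]
  [AddCommGroup M] [Module R M] [AddCommGroup N] [Module R N]
  {P : RootPairing ι R M N}

theorem pairing_perm (i k : ι) : P.pairing (P.reflectionPerm i k) i = - P.pairing k i := by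
  rw [← P.pairing_reflectionPerm i k i, P.pairing_reflectionPerm_self_right]

theorem coroot'_perm (ξ : M) (i k : ι) :
    P.coroot' (P.reflectionPerm i k) ξ = P.coroot' k ξ - P.pairing i k * P.coroot' i ξ := by
  show P.toLinearMap ξ (P.coroot (P.reflectionPerm i k)) = _
  rw [P.coroot_reflectionPerm, P.coreflection_apply, map_sub, map_smul, smul_eq_mul]
  rfl

theorem root'_perm (i k : ι) (x : N) :
    P.root' (P.reflectionPerm i k) x = P.root' k x - P.pairing k i * P.root' i x := by
  show P.toLinearMap (P.root (P.reflectionPerm i k)) x = _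
  rw [P.root_reflectionPerm, P.reflection_apply, map_sub, map_smul, LinearMap.sub_apply,
    LinearMap.smul_apply, smul_eq_mul, P.root_coroot'_eq_pairing]

theorem sum_pairing_eq_filter (A : Finset ι) (i : ι) :
    ∑ k ∈ A, P.pairing k i =
      ∑ k ∈ A.filter (fun k => P.reflectionPerm i k ∉ A), P.pairing k i := by
  rw [← Finset.sum_filter_add_sum_filter_not A (fun k => P.reflectionPerm i k ∈ A)]
  have h1 : ∑ k ∈ A.filter (fun k => P.reflectionPerm i k ∈ A), P.pairing k i = 0 := by
    refine Finset.sum_involution (fun k _ => P.reflectionPerm i k) ?_ ?_ ?_ ?_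
    · intro k _
      show P.pairing k i + P.pairing (P.reflectionPerm i k) i = 0
      rw [pairing_perm, add_neg_cancel]
    · intro k _ hne heq
      have heq' : P.reflectionPerm i k = k := heq
      apply hne
      have := pairing_perm (P := P) i k
      rw [heq'] at this
      linarith
    · intro k hk
      simp only [Finset.mem_filter] at hk ⊢
      exact ⟨hk.2, by rw [P.reflectionPerm_self]; exact hk.1⟩
    · intro k _
      exact P.reflectionPerm_self i k
  rw [h1, zero_add]

theorem sum_pairing_eq_zero (A : Finset ι) (i : ι) (h : ∀ k ∈ A, P.reflectionPerm i k ∈ A) :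
    ∑ k ∈ A, P.pairing k i = 0 := by
  rw [sum_pairing_eq_filter]
  apply Finset.sum_eq_zero
  intro k hk
  rw [Finset.mem_filter] at hk
  exact absurd (h k hk.1) hk.2

theorem coroot'_sum_root (A : Finset ι) (i : ι) :
    P.coroot' i (∑ k ∈ A, P.root k) = ∑ k ∈ A, P.pairing k i := by
  rw [map_sum]
  exact Finset.sum_congr rfl fun k _ => P.root_coroot'_eq_pairing i k

theorem Facet.sgn_perm_of_sgn_zero (F : Facet P) {i : ι} (h0 : F.sgn i = 0) (k : ι) :
    F.sgn (P.reflectionPerm i k) = F.sgn k := by
  obtain ⟨ξ, hξ⟩ := F.exists_sgnVec_eq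
  have e : SignType.sign (P.coroot' i ξ) = F.sgn i := congrFun hξ i
  rw [h0, sign_eq_zero_iff] at e
  rw [← hξ]
  show SignType.sign (P.coroot' (P.reflectionPerm i k) ξ) = SignType.sign (P.coroot' k ξ)
  rw [coroot'_perm, e, mul_zero, sub_zero]

variable [Finite ι] [P.IsRootSystem] [P.IsCrystallographic] [P.IsReduced]

theorem Facet.sum_parab_mem_carrier (F : Facet P) :
    (∑ i ∈ (Set.toFinite F.parab).toFinset, P.root i) ∈ F.carrier := by
  let := Fintype.ofFinite ι
  obtain ⟨b, hb⟩ := Facet.exists_cham F
  obtain ⟨ξ, hξ⟩ := F.exists_sgnVec_eq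
  have hsgn : ∀ k, SignType.sign (P.coroot' k ξ) = F.sgn k := fun k => congrFun hξ k
  have hA : ∀ k, k ∈ (Set.toFinite F.parab).toFinset ↔ F.sgn k ≠ -1 := by
    intro k; rw [Set.Finite.mem_toFinset]; rfl
  rw [Facet.mem_carrier_iff F hb]
  intro i hi
  rw [coroot'_sum_root]
  refine ⟨fun h0 => ?_, fun hne => ?_⟩
  · apply sum_pairing_eq_zero
    intro k hk
    rw [hA] at hk ⊢
    rwa [Facet.sgn_perm_of_sgn_zero F h0]
  · have h1 : F.sgn i = 1 := (Facet.sgn_simple F hb hi).resolve_left hne
    have hvi : 0 < P.coroot' i ξ := by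
      have := hsgn i; rw [h1] at this; exact sign_eq_one_iff.mp this
    rw [sum_pairing_eq_filter]
    have hnn : ∀ k ∈ (Set.toFinite F.parab).toFinset.filter
        (fun k => P.reflectionPerm i k ∉ (Set.toFinite F.parab).toFinset), 0 ≤ P.pairing k i := by
      intro k hk
      rw [Finset.mem_filter, hA, hA, not_not] at hk
      have hvk : 0 ≤ P.coroot' k ξ := by
        by_contra hneg
        push Not at hneg
        exact hk.1 (by rw [← hsgn k, sign_neg hneg])
      have hvsk : P.coroot' (P.reflectionPerm i k) ξ < 0 := by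
        have := hsgn (P.reflectionPerm i k)
        rw [hk.2] at this
        exact sign_eq_neg_one_iff.mp this
      rw [coroot'_perm] at hvsk
      have hpos : 0 < P.pairing i k := by
        by_contra hle
        push Not at hle
        have : P.pairing i k * P.coroot' i ξ ≤ 0 := mul_nonpos_of_nonpos_of_nonneg hle hvi.le
        linarith
      have hrel := pairing_rel (P := P) i k
      have pk := rootForm_root_pos P k
      have pi := rootForm_root_pos P i
      have : 0 < P.pairing k i * P.RootForm (P.root i) (P.root i) := by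
        rw [← hrel]; exact mul_pos hpos pk
      by_contra hneg
      push Not at hneg
      have : P.pairing k i * P.RootForm (P.root i) (P.root i) < 0 := mul_neg_of_neg_of_pos hneg pi
      linarith
    have himem : i ∈ (Set.toFinite F.parab).toFinset.filter
        (fun k => P.reflectionPerm i k ∉ (Set.toFinite F.parab).toFinset) := by
      rw [Finset.mem_filter, hA, hA, not_not, h1, Facet.sgn_neg, h1]
      exact ⟨by decide, rfl⟩
    have := Finset.single_le_sum (f := fun k => P.pairing k i) hnn himem
    simp only [P.pairing_same] at this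
    linarith

theorem Facet.mem_span_corners_of (F : Facet P) {b : P.Base} (hb : b ∈ F.cham) {σ : M}
    (h : ∀ i ∈ b.support, F.sgn i = 0 → P.coroot' i σ = 0) :
    σ ∈ Submodule.span R F.corners := by
  rw [← sum_fw b σ]
  apply Submodule.sum_mem
  intro l hl
  by_cases h0 : F.sgn l = 0
  · rw [h l hl h0, zero_smul]; exact Submodule.zero_mem _
  · exact Submodule.smul_mem _ _
      (Submodule.subset_span (Facet.fw_mem_corners F hb (mem_Jset.mpr ⟨hl, h0⟩)))

/-- For a corner `w` of `F` with corresponding coweight `x`, the simple roots vanishing on `F`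
pair to zero with `x`. -/
theorem Facet.root'_corr_eq_zero (F : Facet P) {b : P.Base} (hb : b ∈ F.cham) {i : ι}
    (hi : i ∈ b.support) (h0 : F.sgn i = 0) {w : M} (hw : w ∈ F.corners) {x : N}
    (hx : Corr P w x) : P.root' i x = 0 := by
  obtain ⟨j, hj, rfl⟩ := Facet.exists_of_mem_corners F hb hw
  rw [(corr_fw_iff b (mem_Jset.mp hj).1 x).mp hx, root'_fcw b (mem_Jset.mp hj).1 hi, if_neg]
  rintro rfl
  exact (mem_Jset.mp hj).2 h0

theorem Facet.sum_psi_mem_span (F : Facet P) (m : M) (hm : m ∈ F.corners) :
    (∑ i ∈ (Set.toFinite (F.Psi m)).toFinset, P.root i) ∈ Submodule.span R F.corners := by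
  obtain ⟨b, hb⟩ := Facet.exists_cham F
  apply Facet.mem_span_corners_of F hb
  intro i hi h0
  rw [coroot'_sum_root]
  apply sum_pairing_eq_zero
  intro k hk
  rw [Set.Finite.mem_toFinset] at hk ⊢
  refine ⟨fun x hx => ?_, fun w' hw' hne x hx => ?_⟩
  · rw [root'_perm, Facet.root'_corr_eq_zero F hb hi h0 hm hx, mul_zero, sub_zero]
    exact hk.1 x hx
  · rw [root'_perm, Facet.root'_corr_eq_zero F hb hi h0 hw' hx, mul_zero, sub_zero]
    exact hk.2 w' hw' hne x hx

end Groth.Agent.H27.Ch
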